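import Cfsg.Agent.H304.Ela.Orth
import Cfsg.Agent.H264.FKS.Char
import Cfsg.Agent.H198.OrthGamma
import Cfsg.Agent.H198.SympGamma
import Cfsg.Agent.H262.ElSympRes
import Cfsg.Agent.H278.ElCore
import Cfsg.Agent.FastGrp
import Cfsg.Agent.Prune
set_option linter.all false
prune_inst 0x7f00000000000000000000000000000000000000000000000000000000000000000000000000000000000000000000000000000000000000000000000000000000000000000000000000000000000000003fffffffffffffffffffffffffffbeffbdffffffff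
open scoped Cfsg.Agent.FastGrp

-- part: H304/Ela/Cyc
section
/-!
# Semilinear versions of the rows of `H264/FKS` (helper304, for S3553)
-/

set_option autoImplicit false
set_option linter.unusedSectionVars false
set_option linter.style.haveILetI false

namespace Cfsg.Agent.H304.Ela

open Cfsg Cfsg.Agent.OrdDiv Cfsg.Agent.H436 Cfsg.Agent.H915.GN Cfsg.Agent.H264.GN Cfsg.Agent.H200.LinFix Module
  Cfsg.Agent.LieClassical.OmegaReindex Cfsg.Agent.H264.FKS
open Cfsg.Agent.H396 (Der)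

universe u v

/-! ### The core -/

section

variable {F : Type*} [Field F] [Finite F] {ι : Type*} [Fintype ι] [DecidableEq ι] {X T : Type*} [Group X] [Finite X]
  [Group T]

/-- kernel elements of order dividing `r` -/
theorem ker_one (σ : X →* Matrix.GeneralLinearGroup ι F) (hσ : Function.Injective σ) (π : X →* T)
    (hker : ∀ k : X, π k = 1 → ∃ a : F, (σ k : Matrix ι ι F) = a • 1) {r e : ℕ}
    (hr : Prim (Nat.card F) e r) (he : 2 ≤ e) {k : X} (hk : π k = 1) (hkr : k ^ r = 1) : k = 1 := by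
  obtain ⟨a, ha⟩ := hker k hk
  apply hσ
  apply Units.ext
  rw [map_one, ha]
  rcases isEmpty_or_nonempty ι with hι | ⟨⟨i⟩⟩
  · ext i; exact (hι.false i).elim
  · have h3 : (a • (1 : Matrix ι ι F)) ^ r = 1 := by
      rw [← ha, ← Units.val_pow_eq_pow_val, ← map_pow, hkr, map_one, Units.val_one]
    rw [smul_pow, one_pow] at h3
    have h4 := congrFun (congrFun h3 i) i
    rw [Matrix.smul_apply, Matrix.one_apply_eq, smul_eq_mul, mul_one] at h4
    rw [scalar_eq_one hr he h4, one_smul, Units.val_one]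

theorem orderOf_pi (σ : X →* Matrix.GeneralLinearGroup ι F) (hσ : Function.Injective σ) (π : X →* T)
    (hker : ∀ k : X, π k = 1 → ∃ a : F, (σ k : Matrix ι ι F) = a • 1) {r e : ℕ}
    (hr : Prim (Nat.card F) e r) (he : 2 ≤ e) {y : X} (hy : orderOf y = r) : orderOf (π y) = r := by
  haveI : Fact r.Prime := ⟨hr.prime⟩
  refine orderOf_eq_prime ?_ ?_
  · rw [← map_pow, ← hy, pow_orderOf_eq_one, map_one]
  · intro h
    have := ker_one σ hσ π hker hr he h (by rw [← hy]; exact pow_orderOf_eq_one y)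
    rw [this, orderOf_one] at hy
    exact hr.prime.one_lt.ne hy

/-- elements of order `r` in a subgroup with cyclic Sylow `r`-subgroups have fixed spaces of the same dimension. -/
theorem dim_eq (σ : X →* Matrix.GeneralLinearGroup ι F) (hσ : Function.Injective σ) (π : X →* T)
    (hπ : Function.Surjective π) (hker : ∀ k : X, π k = 1 → ∃ a : F, (σ k : Matrix ι ι F) = a • 1) {r e : ℕ}
    (hr : Prim (Nat.card F) e r) (he : 2 ≤ e) {y₁ y₂ : X} (h1 : orderOf y₁ = r) (h2 : orderOf y₂ = r)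
    (R : Subgroup T) (hR : Cyc r R) (hm1 : π y₁ ∈ R) (hm2 : π y₂ ∈ R) :
    finrank F (K (lin σ y₁)) = finrank F (K (lin σ y₂)) := by
  haveI : Fact r.Prime := ⟨hr.prime⟩
  haveI : Finite T := Finite.of_surjective π hπ
  have hk1 : ∀ k : X, π k = 1 → k ^ r = 1 → k = 1 := fun k => ker_one σ hσ π hker hr he
  have hord : ∀ {y : X}, orderOf y = r → orderOf (π y) = r := fun {y} => orderOf_pi σ hσ π hker hr he
  obtain ⟨c, j, hc⟩ := hR.exists_conj (a := ⟨π y₁, hm1⟩) (b := ⟨π y₂, hm2⟩)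
    (by rw [Subgroup.orderOf_mk, hord h1]) (by rw [Subgroup.orderOf_mk, hord h2])
  have hc' : π y₂ = (c : T) * (π y₁) ^ j * (c : T)⁻¹ := congrArg Subtype.val hc
  obtain ⟨h, hh⟩ := hπ (c : T)
  have h3 : π y₂ = π (h * y₁ ^ j * h⁻¹) := by
    rw [map_mul, map_mul, map_inv, map_zpow, hh, hc']
  -- the difference is a scalar
  set y := h * y₁ ^ j * h⁻¹ with hy
  have h4 : π (y₂ * y⁻¹) = 1 := by rw [map_mul, map_inv, ← h3, mul_inv_cancel]
  have hyr : y ^ r = 1 := by
    rw [hy, conj_pow, ← zpow_natCast, ← zpow_mul, mul_comm, zpow_mul, zpow_natCast, ← h1, pow_orderOf_eq_one, one_zpow,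
      mul_one, mul_inv_cancel]
  have h5 : y₂ * y⁻¹ = 1 := by
    refine hk1 _ h4 ?_
    obtain ⟨a, ha⟩ := hker _ h4
    have hcomm : Commute (y₂ * y⁻¹) y := by
      have h6 : σ (y₂ * y⁻¹) * σ y = σ y * σ (y₂ * y⁻¹) := by
        apply Units.ext
        rw [Units.val_mul, Units.val_mul, ha, smul_mul_assoc, one_mul, mul_smul_comm, mul_one]
      rw [← map_mul, ← map_mul] at h6
      exact hσ h6
    have h7 : (y₂ * y⁻¹ * y) ^ r = 1 := by
      rw [inv_mul_cancel_right, ← h2, pow_orderOf_eq_one]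
    rw [hcomm.mul_pow, hyr, mul_one] at h7
    exact h7
  have h6 : y₂ = y := mul_inv_eq_one.1 h5
  rw [h6, hy, finrank_K_conj]
  have h7 : orderOf (y₁ ^ j) = r := by
    have h8 : orderOf y = r := by rw [← h6, h2]
    rw [← h8, hy]
    exact (orderOf_injective (MulAut.conj h).toMonoidHom (MulAut.conj h).injective (y₁ ^ j)).symm
  -- `y₁` is a power of `y₁ ^ j`
  have h8 : y₁ ∈ Subgroup.zpowers (y₁ ^ j) := by
    have h9 : Subgroup.zpowers (y₁ ^ j) = Subgroup.zpowers y₁ :=
      Subgroup.eq_of_le_of_card_ge (by rw [Subgroup.zpowers_le]; exact ⟨j, rfl⟩)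
        (by rw [Nat.card_zpowers, Nat.card_zpowers, h7, h1])
    rw [h9]
    exact Subgroup.mem_zpowers y₁
  obtain ⟨i, hi⟩ := h8
  apply le_antisymm
  · exact Submodule.finrank_mono (K_zpow_le (lin σ) y₁ j)
  · have h9 : K (lin σ (y₁ ^ j)) ≤ K (lin σ y₁) := by
      have h10 := K_zpow_le (lin σ) (y₁ ^ j) i
      rwa [show (y₁ ^ j) ^ i = y₁ from hi] at h10
    exact Submodule.finrank_mono h9

/-- **A subgroup with cyclic Sylow `r`-subgroups misses a class of elements of order `r`** under a set `A` of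
automorphisms preserving the dimensions of fixed spaces. -/
theorem exists_of_two (σ : X →* Matrix.GeneralLinearGroup ι F) (hσ : Function.Injective σ) (π : X →* T)
    (hπ : Function.Surjective π) (hker : ∀ k : X, π k = 1 → ∃ a : F, (σ k : Matrix ι ι F) = a • 1) {r e : ℕ}
    (hr : Prim (Nat.card F) e r) (he : 2 ≤ e) {y₁ y₂ : X} (h1 : orderOf y₁ = r) (h2 : orderOf y₂ = r)
    (hne : finrank F (K (lin σ y₁)) ≠ finrank F (K (lin σ y₂))) (A : MulAut T → Prop)
    (hA : ∀ α, A α → ∀ y : X, orderOf y = r → ∃ y' : X, orderOf y' = r ∧ α (π y) = π y' ∧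
      finrank F (K (lin σ y')) = finrank F (K (lin σ y))) (R : Subgroup T) (hR : Cyc r R) :
    ∃ x : T, (orderOf x).Prime ∧ ∀ α : MulAut T, A α → α x ∉ R := by
  by_contra hcon
  push Not at hcon
  obtain ⟨α, hα, hαR⟩ := hcon (π y₁) (by rw [orderOf_pi σ hσ π hker hr he h1]; exact hr.prime)
  obtain ⟨β, hβ, hβR⟩ := hcon (π y₂) (by rw [orderOf_pi σ hσ π hker hr he h2]; exact hr.prime)
  obtain ⟨z₁, hz₁, hz₁', hd₁⟩ := hA α hα y₁ h1
  obtain ⟨z₂, hz₂, hz₂', hd₂⟩ := hA β hβ y₂ h2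
  apply hne
  rw [← hd₁, ← hd₂]
  exact dim_eq σ hσ π hπ hker hr he hz₁ hz₂ R hR (by rw [← hz₁']; exact hαR) (by rw [← hz₂']; exact hβR)

/-- the same, from the orders. -/
theorem exists_of_cyc (σ : X →* Matrix.GeneralLinearGroup ι F) (hσ : Function.Injective σ) (π : X →* T)
    (hπ : Function.Surjective π) (hker : ∀ k : X, π k = 1 → ∃ a : F, (σ k : Matrix ι ι F) = a • 1) {r e b : ℕ}
    (hr : Prim (Nat.card F) e r) (he : 2 ≤ e) (hdim : Fintype.card ι < 3 * e)
    (hb : r ^ b ∣ Nat.card X) (hb' : ¬ r ^ b ∣ Nat.card F ^ (2 * e) - 1) (A : MulAut T → Prop)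
    (hA : ∀ α, A α → ∀ y : X, orderOf y = r → ∃ y' : X, orderOf y' = r ∧ α (π y) = π y' ∧
      finrank F (K (lin σ y')) = finrank F (K (lin σ y))) (R : Subgroup T) (hR : Cyc r R) :
    ∃ x : T, (orderOf x).Prime ∧ ∀ α : MulAut T, A α → α x ∉ R := by
  haveI : Fact r.Prime := ⟨hr.prime⟩
  obtain ⟨y₁, y₂, h1, h2, hne⟩ := Two.exists_two (lin σ) (lin_injective hσ) (ordd_of_prim hr) (cast_ne_zero' hr)
    (by rw [Module.finrank_fintype_fun_eq_card]; exact hdim) hb hb'
  exact exists_of_two σ hσ π hπ hker hr he h1 h2 hne A hA R hR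

end

theorem full_of_not_der {T : Type*} [Group T] [Finite T] {R : Subgroup T} (h : ¬ Der T R) : Full T R := by
  by_contra hcon
  have h1 : H264.FKS.Miss R := exists_of_not_full hcon
  obtain ⟨r, h2, h3, h4⟩ := h1
  exact h (H396.der_of_prime h2 h3 h4)

/-! ### Orthogonal groups -/

section Orth

variable {F : Type} [Field F] [Fintype F] {ι : Type} [Fintype ι] [DecidableEq ι] {Q : QuadraticForm F (ι → F)}

theorem finrank_K_semi (c : GL ι F) (τ : F ≃+* F) (g : GL ι F) :
    finrank F (K (H884.El.lin (c * mp τ g * c⁻¹))) = finrank F (K (H884.El.lin g)) := by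
  have h1 := finrank_K_add g
  have h2 := finrank_K_add (c * mp τ g * c⁻¹)
  rw [finrank_cm_semi] at h2
  omega

/-- the inclusion of `Ω(Q)` in the linear group -/
def sg (Q : QuadraticForm F (ι → F)) : Omega F (⇑Q) →* Matrix.GeneralLinearGroup ι F :=
  (isometryGroup F (⇑Q)).subtype.comp (Omega F (⇑Q)).subtype

theorem sg_injective (Q : QuadraticForm F (ι → F)) : Function.Injective (sg Q) :=
  (Subgroup.subtype_injective _).comp (Subgroup.subtype_injective _)

theorem lin_sg (Q : QuadraticForm F (ι → F)) (y : Omega F (⇑Q)) :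
    lin (sg Q) y = H884.El.lin (((y : isometryGroup F (⇑Q)) : GL ι F)) := by
  ext v
  rfl

theorem semi_lift (hD : H390.Lift.Data Q) {r : ℕ} (hr : r.Prime) (hr2 : r ≠ 2) {α : MulAut (POmega F (⇑Q))}
    (hα : Semi (⇑Q) α) {y : Omega F (⇑Q)} (hy : orderOf y = r) :
    ∃ y' : Omega F (⇑Q), orderOf y' = r ∧
      α (QuotientGroup.mk' (Subgroup.center (Omega F (⇑Q))) y) = QuotientGroup.mk' _ y' ∧
      finrank F (K (lin (sg Q) y')) = finrank F (K (lin (sg Q) y)) := by
  haveI : Fact r.Prime := ⟨hr⟩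
  obtain ⟨c, τ, hc, hind⟩ := hα
  have hyr : y ^ r = 1 := by rw [← hy]; exact pow_orderOf_eq_one y
  have hyg : ((y : isometryGroup F (⇑Q)) : GL ι F) ^ r = 1 := congrArg (fun z : Omega F (⇑Q) =>
    ((z : isometryGroup F (⇑Q)) : GL ι F)) hyr
  have h1 := conj_mem_isometry hc (y : isometryGroup F (⇑Q)).2
  have h2 : (c * mp τ ((y : isometryGroup F (⇑Q)) : GL ι F) * c⁻¹) ^ r = 1 := by
    rw [conj_pow, ← map_pow, hyg, map_one, mul_one, mul_inv_cancel]
  obtain ⟨z, hz⟩ := H884.El.exists_omega hD h1 (hr.odd_of_ne_two hr2) h2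
  refine ⟨z, ?_, ?_, ?_⟩
  · apply orderOf_eq_prime
    · apply sg_injective Q
      rw [map_pow, map_one]
      have h6 : sg Q z = c * mp τ ((y : isometryGroup F (⇑Q)) : GL ι F) * c⁻¹ := hz
      rw [h6, h2]
    · intro h
      rw [h] at hz
      have h3 : c * mp τ ((y : isometryGroup F (⇑Q)) : GL ι F) * c⁻¹ = 1 := hz.symm
      have h4 := mp_injective τ ((conj_eq_one_iff.1 h3).trans (map_one (mp τ)).symm)
      have h5 : y = 1 := Subtype.ext (Subtype.ext h4)
      rw [h5, orderOf_one] at hy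
      exact hr.one_lt.ne hy
  · exact hind y z (by rw [hz, Units.val_mul, Units.val_mul, coe_mp])
  · rw [lin_sg, lin_sg, hz, finrank_K_semi]

theorem derS_pomega {n r : ℕ} (hD : H390.Lift.Data Q)
    (hQ : (QuadraticMap.polarBilin Q).Nondegenerate) (h3 : 3 ≤ Fintype.card ι) (hs : ∃ u : ι → F, u ≠ 0 ∧ Q u = 0)
    (hr : Prim (Nat.card F) n r) (hn : 2 ≤ n) (hdim : Fintype.card ι < 3 * n) {b : ℕ}
    (hb : r ^ b ∣ Nat.card (POmega F (⇑Q))) (hb' : ¬ r ^ b ∣ Nat.card F ^ (2 * n) - 1)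
    (R : Subgroup (POmega F (⇑Q))) (hR : Cyc r R) : DerS (⇑Q) R := by
  refine exists_of_cyc (sg Q) (sg_injective Q) (QuotientGroup.mk' (Subgroup.center (Omega F (⇑Q))))
    (QuotientGroup.mk'_surjective _) (fun k hk => ?_) hr hn hdim (hb.trans (Subgroup.card_quotient_dvd_card _)) hb'
    (Semi (⇑Q)) (fun α hα y hy => ?_) R hR
  · have h1 := (QuotientGroup.eq_one_iff k).1 hk
    rcases (LieClassical.OmegaCenter.mem_center_omega_iff Q hQ h3 hs k).1 h1 with h2 | h2
    · exact ⟨1, by rw [one_smul]; exact h2⟩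
    · exact ⟨-1, by rw [neg_one_smul]; exact h2⟩
  · refine semi_lift hD hr.prime ?_ hα hy
    have := lt_of_prim hr
    omega

end Orth

theorem semi_odd {F : Type} [Field F] [Fintype F] {m : ℕ} (hm : 3 ≤ m) (h2 : (2 : F) ≠ 0)
    (α : MulAut (POmega F (quadFormOdd m F))) : Semi (quadFormOdd m F) α :=
  H198.OrthGamma.exists_pair (AutOrth.Main.all_odd hm h2 α)

theorem semi_plus {F : Type} [Field F] [Fintype F] {m : ℕ} (hm : 5 ≤ m)
    (α : MulAut (POmega F (quadFormPlus m F))) : Semi (quadFormPlus m F) α :=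
  H198.OrthGamma.exists_pair (AutOrth.Main.all_plus hm α)

/-- `Ω_{2n+1}(q)` -/
theorem der_named_oodd {T : Type u} [Group T] {n q r : ℕ} (hT : IsNamed (.oodd n q) T) (hr : Prim q n r) (hn : 3 ≤ n)
    (he : n % 2 = 0) (R : Subgroup T) (hR : Cyc r R) : Der T R := by
  have hc : 2 * Nat.card T = q ^ (n ^ 2) * prB q n := hT.eq
  obtain ⟨F, _, _, hF, ⟨Φ⟩⟩ := hT.real
  have h5 := lt_of_prim hr
  have hq : 2 ≤ q := by rw [← hF]; exact Fintype.one_lt_card
  obtain ⟨b, hb, hb'⟩ := exists_pow hr (by omega) hq (fun h => by have := Nat.le_of_dvd (by norm_num) h; omega) hc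
    ((prod_dvd (by omega) he).mul_left _)
  rw [Nat.card_congr Φ.toEquiv] at hb
  have h2 : (2 : F) ≠ 0 := H390.two_ne_zero_of_odd (by rw [hF]; exact hT.cond.2.1)
  rw [← hF, ← Nat.card_eq_fintype_card] at hr hb'
  have h1 : Cyc r (R.comap Φ.symm.toMonoidHom) := by
    refine hR.of_injective ((Φ.symm.toMonoidHom.comp (R.comap Φ.symm.toMonoidHom).subtype).codRestrict R
      fun x => x.2) fun x y hxy => ?_
    exact Subtype.ext (Φ.symm.injective (congrArg Subtype.val hxy))
  have hcard : Fintype.card (Unit ⊕ (Fin n ⊕ Fin n)) = 2 * n + 1 := by simp only [_root_.Fintype.card_sum, _root_.Fintype.card_unique, _root_.Fintype.card_fin]; ring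
  have key : ∀ (R : Subgroup (POmega F (⇑(quadOdd n F)))), r ^ b ∣ Nat.card (POmega F (⇑(quadOdd n F))) → Cyc r R →
      DerS (⇑(quadOdd n F)) R := fun R hb hR =>
    derS_pomega (H884.El.data_odd hn h2) (quadOdd_nondegenerate h2) (by rw [hcard]; omega)
      (quadOdd_isotropic (by omega)) hr (by omega) (by rw [hcard]; omega) hb hb' R hR
  rw [coe_quadOdd] at key
  exact ((key _ hb h1).der (semi_odd hn h2)).congr Φ.symm

/-- `PΩ^+_{2n}(q)` -/
theorem derS_plus {F : Type} [Field F] [Fintype F] {n r : ℕ} (hr : Prim (Nat.card F) n r) (hn : 4 ≤ n)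
    (he : n % 2 = 0) (R : Subgroup (POmega F (quadFormPlus n F))) (hR : Cyc r R) : DerS (quadFormPlus n F) R := by
  have hT := named_oplus F hn
  have hc : Nat.gcd 4 (Fintype.card F ^ n - 1) * Nat.card (POmega F (quadFormPlus n F)) =
    Fintype.card F ^ (n * (n - 1)) * ((Fintype.card F ^ n - 1) * prB (Fintype.card F) (n - 1)) := hT.eq
  have h5 := lt_of_prim hr
  rw [← Nat.card_eq_fintype_card] at hc
  have hq : 2 ≤ Nat.card F := Finite.one_lt_card
  obtain ⟨b, hb, hb'⟩ := exists_pow hr (by omega) hq (fun h => by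
    have := Nat.le_of_dvd (by norm_num) (h.trans (Nat.gcd_dvd_left _ _)); omega) hc
    (Dvd.dvd.mul_left (Nat.mul_dvd_mul_left _ (by
      rw [prB_eq]
      have h6 := Finset.dvd_prod_of_mem (fun i => Nat.card F ^ (2 * (i + 1)) - 1)
        (Finset.mem_range.mpr (by omega : n / 2 - 1 < n - 1))
      rwa [show 2 * (n / 2 - 1 + 1) = n by omega] at h6)) _)
  have hcard : Fintype.card (Fin n ⊕ Fin n) = 2 * n := by simp only [_root_.Fintype.card_sum, _root_.Fintype.card_fin]; ring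
  have key : ∀ (R : Subgroup (POmega F (⇑(quadPlus n F)))), r ^ b ∣ Nat.card (POmega F (⇑(quadPlus n F))) → Cyc r R →
      DerS (⇑(quadPlus n F)) R := fun R hb hR =>
    derS_pomega (H884.El.data_plus hn) quadPlus_nondegenerate (by rw [hcard]; omega) (quadPlus_isotropic (by omega)) hr
      (by omega) (by rw [hcard]; omega) hb hb' R hR
  rw [coe_quadPlus] at key
  exact key _ hb hR

theorem cyc_comap {T S : Type*} [Group T] [Group S] {r : ℕ} {R : Subgroup T} (hR : Cyc r R) (Φ : S ≃* T) :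
    Cyc r (R.comap Φ.toMonoidHom) := by
  refine hR.of_injective ((Φ.toMonoidHom.comp (R.comap Φ.toMonoidHom).subtype).codRestrict R
    fun x => x.2) fun x y hxy => ?_
  exact Subtype.ext (Φ.injective (congrArg Subtype.val hxy))

theorem der_named_oplus {T : Type u} [Group T] {n q r : ℕ} (hT : IsNamed (.oplus n q) T) (hr : Prim q n r)
    (hn : 5 ≤ n) (he : n % 2 = 0) (R : Subgroup T) (hR : Cyc r R) : Der T R := by
  obtain ⟨F, _, _, hF, ⟨Φ⟩⟩ := hT.real
  rw [← hF, ← Nat.card_eq_fintype_card] at hr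
  exact ((derS_plus hr (by omega) he _ (cyc_comap hR Φ.symm)).der (semi_plus hn)).congr Φ.symm

end Cfsg.Agent.H304.Ela
end

-- part: H304/Ela/Psp
section
/-!
# Symplectic groups: subgroups with cyclic Sylow `r`-subgroups (helper304, for S3553)
-/

set_option autoImplicit false
set_option linter.unusedSectionVars false
set_option linter.style.haveILetI false

namespace Cfsg.Agent.H304.Ela

open Cfsg Cfsg.Agent.OrdDiv Cfsg.Agent.H436 Cfsg.Agent.H915.GN Cfsg.Agent.H264.GN Cfsg.Agent.H200.LinFix Module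
  Cfsg.Agent.LieClassical.OmegaReindex Cfsg.Agent.H264.FKS
open Cfsg.Agent.H396 (Der)
open ClassicalGeometry.SympBasic (mem_symplecticGroup_iff)

universe u v

section gen

variable {F : Type u} [Field F] {m : ℕ}

/-- the inclusion of the symplectic group in the linear group -/
def ss (m : ℕ) (F : Type u) [Field F] :
    Matrix.symplecticGroup (Fin m) F →* Matrix.GeneralLinearGroup (Fin m ⊕ Fin m) F :=
  MonoidHom.toHomUnits (Matrix.symplecticGroup (Fin m) F).subtype

theorem ss_injective : Function.Injective (ss m F) := fun _ _ hab => Subtype.ext (congrArg Units.val hab)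

theorem coe_ss (y : Matrix.symplecticGroup (Fin m) F) :
    ((ss m F y : GL (Fin m ⊕ Fin m) F) : Matrix (Fin m ⊕ Fin m) (Fin m ⊕ Fin m) F) = y := rfl

/-- a semisimilitude conjugates symplectic matrices to symplectic matrices -/
theorem conj_mem_symp {A : GL (Fin m ⊕ Fin m) F} (hA : A ∈ GSp m F) (τ : F ≃+* F)
    (y : Matrix.symplecticGroup (Fin m) F) :
    ((A * mp τ (ss m F y) * A⁻¹ : GL (Fin m ⊕ Fin m) F) : Matrix (Fin m ⊕ Fin m) (Fin m ⊕ Fin m) F) ∈
      Matrix.symplecticGroup (Fin m) F := by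
  obtain ⟨l, hl⟩ := hA
  have hy := mem_symplecticGroup_iff.1 y.2
  rw [mem_symplecticGroup_iff]
  have hsur : ∀ w : Fin m ⊕ Fin m → F, ∃ v : Fin m ⊕ Fin m → F,
      (A : Matrix (Fin m ⊕ Fin m) (Fin m ⊕ Fin m) F).mulVec (fun i => τ (v i)) = w := by
    intro w
    refine ⟨fun i => τ.symm ((((A⁻¹ : GL (Fin m ⊕ Fin m) F) : Matrix _ _ F).mulVec w) i), ?_⟩
    simp only [RingEquiv.apply_symm_apply]
    rw [Matrix.mulVec_mulVec, ← Units.val_mul, mul_inv_cancel, Units.val_one, Matrix.one_mulVec]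
  have key : ∀ v : Fin m ⊕ Fin m → F,
      ((A * mp τ (ss m F y) * A⁻¹ : GL (Fin m ⊕ Fin m) F) : Matrix (Fin m ⊕ Fin m) (Fin m ⊕ Fin m) F).mulVec
        ((A : Matrix (Fin m ⊕ Fin m) (Fin m ⊕ Fin m) F).mulVec (fun i => τ (v i))) =
      (A : Matrix (Fin m ⊕ Fin m) (Fin m ⊕ Fin m) F).mulVec (fun i => τ (((y : Matrix (Fin m ⊕ Fin m) (Fin m ⊕ Fin m) F).mulVec v) i)) := by
    intro v
    rw [Matrix.mulVec_mulVec, ← Units.val_mul, inv_mul_cancel_right, Units.val_mul, ← Matrix.mulVec_mulVec, mulVec_mp,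
      coe_ss]
  intro u v
  obtain ⟨u, rfl⟩ := hsur u
  obtain ⟨v, rfl⟩ := hsur v
  rw [key, key, hl, hl, H198.SympGamma.sympForm_map, H198.SympGamma.sympForm_map, hy]

end gen

section

variable {F : Type} [Field F] [Fintype F] {m : ℕ}

theorem lin_ss (y : Matrix.symplecticGroup (Fin m) F) : lin (ss m F) y = H884.El.lin (ss m F y) := by
  ext v
  rfl

theorem semi_lift_psp (hm : 2 ≤ m) (h : 3 ≤ m ∨ (2 : F) ≠ 0) {r : ℕ}
    (α : MulAut (PSp m F)) {y : Matrix.symplecticGroup (Fin m) F} (hy : orderOf y = r) :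
    ∃ y' : Matrix.symplecticGroup (Fin m) F, orderOf y' = r ∧
      α (QuotientGroup.mk' (Subgroup.center (Matrix.symplecticGroup (Fin m) F)) y) = QuotientGroup.mk' _ y' ∧
      finrank F (K (lin (ss m F) y')) = finrank F (K (lin (ss m F) y)) := by
  obtain ⟨A, τ, hA, hind⟩ := H198.SympGamma.exists_pair hm h α
  let y' : Matrix.symplecticGroup (Fin m) F := ⟨_, conj_mem_symp hA τ y⟩
  have hy' : ss m F y' = A * mp τ (ss m F y) * A⁻¹ := Units.ext rfl
  refine ⟨y', ?_, hind y y' ?_, ?_⟩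
  · rw [← orderOf_injective (ss m F) ss_injective, hy', ← MulAut.conj_apply, MulEquiv.orderOf_eq,
      orderOf_injective (mp τ) (mp_injective τ), orderOf_injective (ss m F) ss_injective, hy]
  · rw [← coe_ss y', hy', Units.val_mul, Units.val_mul, coe_mp, coe_ss]
  · rw [lin_ss, lin_ss, hy', finrank_K_semi]

theorem der_psp {n r : ℕ} (hr : Prim (Nat.card F) n r) (hn : 2 ≤ n) (h : 3 ≤ n ∨ (2 : F) ≠ 0) (he : n % 2 = 0)
    (R : Subgroup (PSp n F)) (hR : Cyc r R) : Der (PSp n F) R := by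
  have hq : 2 ≤ Nat.card F := Finite.one_lt_card
  obtain ⟨b, hb, hb'⟩ := exists_pow (D := 1) (c := Nat.card (Matrix.symplecticGroup (Fin n) F)) hr hn hq
    (fun h => hr.prime.one_lt.ne' (Nat.dvd_one.1 h)) (by rw [one_mul]) (by
      rw [S0245.result (F := F) rfl n, ← Nat.card_eq_fintype_card]
      refine Dvd.dvd.mul_left ?_ _
      have := prod_dvd (q := Nat.card F) hn he
      rwa [prB_eq] at this)
  obtain ⟨x, hx, hx'⟩ := exists_of_cyc (ss n F) ss_injective
    (QuotientGroup.mk' (Subgroup.center (Matrix.symplecticGroup (Fin n) F)))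
    (QuotientGroup.mk'_surjective _) (fun k hk => by
      have h1 := (QuotientGroup.eq_one_iff k).1 hk
      exact (LieClassical.SympCenter.mem_center_iff n k).1 h1) hr hn
    (by rw [Fintype.card_sum, Fintype.card_fin]; omega) hb hb' (fun _ => True)
    (fun α _ y hy => semi_lift_psp hn h α hy) R hR
  exact ⟨x, hx, fun α => hx' α trivial⟩

end

theorem der_named_psp {T : Type u} [Group T] {n q r : ℕ} (hT : IsNamed (.psp n q) T) (hr : Prim q n r) (hn : 2 ≤ n)
    (h : 3 ≤ n ∨ Odd q) (he : n % 2 = 0) (R : Subgroup T) (hR : Cyc r R) : Der T R := by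
  obtain ⟨F, _, _, hF, ⟨Φ⟩⟩ := hT.real
  rw [← hF, ← Nat.card_eq_fintype_card] at hr
  refine (der_psp hr hn (h.imp_right fun ho => ?_) he _ (cyc_comap hR Φ.symm)).congr Φ.symm
  exact H390.two_ne_zero_of_odd (by rw [hF]; exact ho)

/-! ### `n = 6`, `q = 2` -/

section Six

variable {F : Type} [Field F] [Fintype F]

theorem der_six_plus (hF : Nat.card F = 2) (R : Subgroup (POmega F (quadFormPlus 6 F))) (hR : Cyc 7 R) :
    Der (POmega F (quadFormPlus 6 F)) R := by
  have key : ∀ (R : Subgroup (POmega F (⇑(quadPlus 6 F)))), Cyc 7 R → DerS (⇑(quadPlus 6 F)) R := by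
    intro R hR
    obtain ⟨g₁, h1, g₂, h2, h1r, h1n, h2r, h2n, hne⟩ := exists_seven hF
    haveI : Fact (Nat.Prime 7) := ⟨by norm_num⟩
    have hc : Fintype.card (Fin 6 ⊕ Fin 6) = 12 := by simp
    obtain ⟨y₁, hy₁⟩ := H884.El.exists_omega (H884.El.data_plus (by norm_num)) h1 (by decide) h1r
    obtain ⟨y₂, hy₂⟩ := H884.El.exists_omega (H884.El.data_plus (by norm_num)) h2 (by decide) h2r
    have ho : ∀ {y : Omega F (⇑(quadPlus 6 F))} {g : Matrix.GeneralLinearGroup (Fin 6 ⊕ Fin 6) F},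
        sg (quadPlus 6 F) y = g → g ^ 7 = 1 → g ≠ 1 → orderOf y = 7 := fun {y g} hy h3 h4 => by
      rw [← orderOf_injective ((by exact sg (quadPlus 6 F))) (sg_injective _), hy]
      exact orderOf_eq_prime h3 h4
    refine exists_of_two (sg (quadPlus 6 F)) (sg_injective _)
      (QuotientGroup.mk' (Subgroup.center (Omega F (⇑(quadPlus 6 F)))))
      (QuotientGroup.mk'_surjective _) (fun k hk => ?_) (prim_seven hF) (by norm_num) (ho hy₁ h1r h1n)
      (ho hy₂ h2r h2n) ?_ (Semi (⇑(quadPlus 6 F)))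
      (fun α hα y hy => semi_lift (H884.El.data_plus (by norm_num)) (by norm_num) (by norm_num) hα hy) R hR
    · have h5 := (QuotientGroup.eq_one_iff k).1 hk
      rcases (LieClassical.OmegaCenter.mem_center_omega_iff (quadPlus 6 F) quadPlus_nondegenerate
        (by rw [hc]; norm_num) (quadPlus_isotropic (by norm_num)) k).1 h5 with h6 | h6
      · exact ⟨1, by rw [one_smul]; exact h6⟩
      · exact ⟨-1, by rw [neg_one_smul]; exact h6⟩
    · rw [lin_sg, lin_sg, hy₁, hy₂]
      exact hne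
  rw [coe_quadPlus] at key
  exact (key R hR).der (semi_plus (by norm_num))

seal _root_.Finset.sum _root_.dotProduct in
theorem der_six_symp (hF : Nat.card F = 2) (R : Subgroup (PSp 6 F)) (hR : Cyc 7 R) : Der (PSp 6 F) R := by
  obtain ⟨g₁, h1, g₂, h2, h1r, h1n, h2r, h2n, hne⟩ := exists_seven hF
  haveI : Fact (Nat.Prime 7) := ⟨by norm_num⟩
  have ho : ∀ {y : Matrix.symplecticGroup (Fin 6) F} {g : Matrix.GeneralLinearGroup (Fin 6 ⊕ Fin 6) F},
      ss 6 F y = g → g ^ 7 = 1 → g ≠ 1 → orderOf y = 7 := fun {y g} hy h3 h4 => by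
    rw [← orderOf_injective (ss 6 F) ss_injective, hy]
    exact orderOf_eq_prime h3 h4
  have hy : ∀ {g : Matrix.GeneralLinearGroup (Fin 6 ⊕ Fin 6) F} (hg : g ∈ isometryGroup F (⇑(quadPlus 6 F))),
      ss 6 F ⟨(g : Matrix _ _ F), (mem_symp hF hg :)⟩ = g := fun {g} hg => Units.ext rfl
  obtain ⟨x, hx, hx'⟩ := exists_of_two (ss 6 F) ss_injective
    (QuotientGroup.mk' (Subgroup.center (Matrix.symplecticGroup (Fin 6) F)))
    (QuotientGroup.mk'_surjective _) (fun k hk => by
      have h1 := (QuotientGroup.eq_one_iff k).1 hk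
      exact (LieClassical.SympCenter.mem_center_iff 6 k).1 h1) (prim_seven hF) (by norm_num) (ho (hy h1) h1r h1n)
    (ho (hy h2) h2r h2n) (by rw [lin_ss, lin_ss, hy h1, hy h2]; exact hne) (fun _ => True)
    (fun α _ y hy => semi_lift_psp (by norm_num) (Or.inl (by norm_num)) α hy) R hR
  exact ⟨x, hx, fun α => hx' α trivial⟩

end Six

theorem der_named_six_plus {T : Type u} [Group T] (hT : IsNamed (.oplus 6 (2 ^ 1)) T) (R : Subgroup T)
    (hR : Cyc 7 R) : Der T R := by
  obtain ⟨F, _, _, hF, ⟨Φ⟩⟩ := hT.real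
  exact (der_six_plus (card_two_of hF rfl) _ (cyc_comap hR Φ.symm)).congr Φ.symm

theorem der_named_six_symp {T : Type u} [Group T] (hT : IsNamed (.psp 6 (2 ^ 1)) T) (R : Subgroup T)
    (hR : Cyc 7 R) : Der T R := by
  obtain ⟨F, _, _, hF, ⟨Φ⟩⟩ := hT.real
  exact (der_six_symp (card_two_of hF rfl) _ (cyc_comap hR Φ.symm)).congr Φ.symm

end Cfsg.Agent.H304.Ela
end

-- part: H304/Ela/Rows
section
/-!
# Socles of Lie type in the defining characteristic, automorphism version (helper304, for S3553)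

After `H264/FKS/TwoRows`, `TwoSix`, `Char` (helper264).
-/

set_option autoImplicit false
set_option linter.unusedSectionVars false
set_option linter.style.haveILetI false

namespace Cfsg.Agent.H304.Ela

open Cfsg Cfsg.Agent.OrdDiv Cfsg.Agent.H436 Cfsg.Agent.H915.GN Cfsg.Agent.H264.GN Cfsg.Agent.H200.LinFix Module
  Cfsg.Agent.LieClassical.OmegaReindex Cfsg.Agent.H264.FKS Cfsg.Agent.H902 Cfsg.Agent.H902.Names
open Cfsg.Agent.H396 (Der)

universe u v

/-- the automorphism version of the characteristic `p` row -/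
def CharRowA (p : ℕ) (T : Type u) [Group T] : Prop :=
  ∀ R : Subgroup T, R ≠ ⊤ → ∀ S : Subgroup R, S.Normal → IsSimpleGroup S → ¬ IsMulCommutative S →
    Subgroup.centralizer (S : Set R) = ⊥ → ∀ g, IsNamed g S → HasChar p g → Der T R

variable {p f n r : ℕ} {g : Grp} {T : Type u} [Group T] [Finite T] {R : Subgroup T}

/-- **`T = PSp_{2n}(q)`, `n ≥ 3`.** -/
theorem der_psp' (hT : IsNamed (.psp n (p ^ f)) T) (hp : p.Prime) (hf : 1 ≤ f) (hn : 3 ≤ n)
    (hex1 : ¬ (p = 2 ∧ f * (2 * n) = 6)) (hex2 : ¬ (p = 2 ∧ f * (2 * (n - 1)) = 6)) (h6 : ¬ (n = 6 ∧ p ^ f = 2))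
    (hR : R ≠ ⊤)
    (S : Subgroup R) [S.Normal] [IsSimpleGroup S] (hna : ¬ IsMulCommutative S)
    (hC : Subgroup.centralizer (S : Set R) = ⊥) (hS : IsNamed g S) (hch : HasChar p g) : Der T R := by
  by_contra hcon
  obtain ⟨he, hg⟩ := full_psp hT hp hf hn hex1 hex2 hR (full_of_not_der hcon) S hna hC hS hch
  obtain ⟨r, hr, hlt⟩ := exists_big hp hf hn (by
    rintro ⟨rfl, h⟩
    have hn' : 4 ≤ n := by omega
    have : f * 4 ≤ f * n := Nat.mul_le_mul_left _ hn'
    obtain rfl : f = 1 := by omega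
    exact h6 ⟨by omega, rfl⟩)
  exact hcon (der_named_psp hT hr (by omega) (Or.inl hn) he R
    (cyc_four S hna hC (Or.inl hg) hS hp hf hr hlt hn he))

/-- **`T = Ω_{2n+1}(q)`, `n ≥ 3`.** -/
theorem der_oodd' (hT : IsNamed (.oodd n (p ^ f)) T) (hp : p.Prime) (hf : 1 ≤ f) (hn : 3 ≤ n) (hR : R ≠ ⊤)
    (S : Subgroup R) [S.Normal] [IsSimpleGroup S] (hna : ¬ IsMulCommutative S)
    (hC : Subgroup.centralizer (S : Set R) = ⊥) (hS : IsNamed g S) (hch : HasChar p g) : Der T R := by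
  by_contra hcon
  obtain ⟨he, hg⟩ := full_oodd hT hp hf hn hR (full_of_not_der hcon) S hna hC hS hch
  obtain ⟨r, hr, hlt⟩ := exists_big hp hf hn (by
    rintro ⟨rfl, h⟩
    have := hT.cond.2.1
    rw [Nat.odd_pow_iff (by omega)] at this
    exact absurd this (by decide))
  exact hcon (der_named_oodd hT hr (by omega) he R (cyc_four S hna hC (Or.inl hg) hS hp hf hr hlt hn he))

/-- **`T = PΩ^+_{2n}(q)`, `n ≥ 5`.** -/
theorem der_oplus' (hT : IsNamed (.oplus n (p ^ f)) T) (hp : p.Prime) (hf : 1 ≤ f) (hn : 5 ≤ n)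
    (hex1 : ¬ (p = 2 ∧ f * (2 * (n - 1)) = 6)) (hex2 : ¬ (p = 2 ∧ f * (2 * (n - 2)) = 6)) (h6 : ¬ (n = 6 ∧ p ^ f = 2))
    (hR : R ≠ ⊤)
    (S : Subgroup R) [S.Normal] [IsSimpleGroup S] (hna : ¬ IsMulCommutative S)
    (hC : Subgroup.centralizer (S : Set R) = ⊥) (hS : IsNamed g S) (hch : HasChar p g) : Der T R := by
  by_contra hcon
  obtain ⟨he, hg⟩ := full_oplus hT hp hf (by omega) hex1 hex2 hR (full_of_not_der hcon) S hna hC hS hch
  obtain ⟨r, hr, hlt⟩ := exists_big hp hf (n := n) (by omega) (by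
    rintro ⟨rfl, h⟩
    have : f * 4 ≤ f * n := Nat.mul_le_mul_left _ (by omega)
    obtain rfl : f = 1 := by omega
    exact h6 ⟨by omega, rfl⟩)
  exact hcon (der_named_oplus hT hr (by omega) he R
    (cyc_four S hna hC (Or.inr hg) hS hp hf hr hlt (by omega) he))

/-- **`T = PSp_{2n}(q)`, `n ≥ 3`**, `(n, q) ≠ (3, 2), (4, 2)`. -/
theorem der_psp_all (hT : IsNamed (.psp n (p ^ f)) T) (hp : p.Prime) (hf : 1 ≤ f) (hn : 3 ≤ n)
    (hex : ¬ (p ^ f = 2 ∧ n ≤ 4)) (hR : R ≠ ⊤)
    (S : Subgroup R) [S.Normal] [IsSimpleGroup S] (hna : ¬ IsMulCommutative S)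
    (hC : Subgroup.centralizer (S : Set R) = ⊥) (hS : IsNamed g S) (hch : HasChar p g) : Der T R := by
  have key : ∀ k, 2 ≤ k → k ≤ n → n ≤ k + 1 → ¬ (p = 2 ∧ f * (2 * k) = 6) := by
    rintro k hk hkn hkn' ⟨rfl, h⟩
    have h1 : f * k = 3 := by
      have : f * (2 * k) = 2 * (f * k) := by ring
      omega
    have h2 : k ∣ 3 := ⟨f, by rw [← h1, mul_comm]⟩
    have h3 := Nat.le_of_dvd (by norm_num) h2
    interval_cases k
    · omega
    · obtain rfl : f = 1 := by omega
      exact hex ⟨rfl, by omega⟩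
  by_cases h6 : n = 6 ∧ p ^ f = 2
  · obtain ⟨rfl, h6⟩ := h6
    have hp2 : p = 2 := by
      have : p ∣ 2 := by rw [← h6]; exact dvd_pow_self p (by omega)
      exact (Nat.prime_dvd_prime_iff_eq hp Nat.prime_two).1 this
    subst hp2
    have hf1 : f = 1 := by
      have : (2 : ℕ) ^ f = 2 ^ 1 := h6
      exact Nat.pow_right_injective le_rfl this
    subst hf1
    by_contra hcon
    obtain ⟨-, hg⟩ := full_psp hT hp hf hn (key 6 (by norm_num) le_rfl (by norm_num))
      (key 5 (by norm_num) (by norm_num) (by norm_num)) hR (full_of_not_der hcon) S hna hC hS hch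
    exact hcon (der_named_six_symp hT R (cyc_six S hna hC (Or.inl hg) hS))
  · exact der_psp' hT hp hf hn (key n (by omega) le_rfl (by omega)) (key (n - 1) (by omega) (by omega) (by omega)) h6
      hR S hna hC hS hch

/-- **`T = PΩ^+_{2n}(q)`, `n ≥ 5`**, `(n, q) ≠ (5, 2)`. -/
theorem der_oplus_all (hT : IsNamed (.oplus n (p ^ f)) T) (hp : p.Prime) (hf : 1 ≤ f) (hn : 5 ≤ n)
    (hex : ¬ (p ^ f = 2 ∧ n ≤ 5)) (hR : R ≠ ⊤)
    (S : Subgroup R) [S.Normal] [IsSimpleGroup S] (hna : ¬ IsMulCommutative S)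
    (hC : Subgroup.centralizer (S : Set R) = ⊥) (hS : IsNamed g S) (hch : HasChar p g) : Der T R := by
  have key : ∀ k, 2 ≤ k → k + 1 ≤ n → n ≤ k + 2 → ¬ (p = 2 ∧ f * (2 * k) = 6) := by
    rintro k hk hkn hkn' ⟨rfl, h⟩
    have h1 : f * k = 3 := by
      have : f * (2 * k) = 2 * (f * k) := by ring
      omega
    have h2 : k ∣ 3 := ⟨f, by rw [← h1, mul_comm]⟩
    have h3 := Nat.le_of_dvd (by norm_num) h2
    interval_cases k
    · omega
    · obtain rfl : f = 1 := by omega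
      exact hex ⟨rfl, by omega⟩
  by_cases h6 : n = 6 ∧ p ^ f = 2
  · obtain ⟨rfl, h6⟩ := h6
    have hp2 : p = 2 := by
      have : p ∣ 2 := by rw [← h6]; exact dvd_pow_self p (by omega)
      exact (Nat.prime_dvd_prime_iff_eq hp Nat.prime_two).1 this
    subst hp2
    have hf1 : f = 1 := by
      have : (2 : ℕ) ^ f = 2 ^ 1 := h6
      exact Nat.pow_right_injective le_rfl this
    subst hf1
    by_contra hcon
    obtain ⟨-, hg⟩ := full_oplus hT hp hf (by omega) (key 5 (by norm_num) (by norm_num) (by norm_num))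
      (key 4 (by norm_num) (by norm_num) (by norm_num)) hR (full_of_not_der hcon) S hna hC hS hch
    exact hcon (der_named_six_plus hT R (cyc_six S hna hC (Or.inr hg) hS))
  · exact der_oplus' hT hp hf hn (key (n - 1) (by omega) (by omega) (by omega))
      (key (n - 2) (by omega) (by omega) (by omega)) h6 hR S hna hC hS hch

theorem charRowA_psp {q : ℕ} (hp : p.Prime) (hpq : p ∣ q) (hT : IsNamed (.psp n q) T) (hn : 3 ≤ n)
    (h2 : ¬ (q = 2 ∧ n ≤ 4)) : CharRowA p T := by
  obtain ⟨f, hf, rfl⟩ := exists_pf hp hT.cond.2.2 hpq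
  intro R hR S h1 h2' h3 h4' g h5 h6
  exact der_psp_all hT hp hf hn h2 hR S h3 h4' h5 h6

theorem charRowA_oodd {q : ℕ} (hp : p.Prime) (hpq : p ∣ q) (hT : IsNamed (.oodd n q) T) : CharRowA p T := by
  obtain ⟨f, hf, rfl⟩ := exists_pf hp hT.cond.2.2 hpq
  intro R hR S h1 h2' h3 h4' g h5 h6
  exact der_oodd' hT hp hf hT.cond.1 hR S h3 h4' h5 h6

theorem charRowA_oplus {q : ℕ} (hp : p.Prime) (hpq : p ∣ q) (hT : IsNamed (.oplus n q) T) (hn : 5 ≤ n)
    (h2 : ¬ (q = 2 ∧ n ≤ 5)) : CharRowA p T := by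
  obtain ⟨f, hf, rfl⟩ := exists_pf hp hT.cond.2 hpq
  intro R hR S h1 h2' h3 h4' g h5 h6
  exact der_oplus_all hT hp hf hn h2 hR S h3 h4' h5 h6

/-- **`PΩ^+_8(q)`, `q > 2`**, semilinear version -/
theorem derS_four {F : Type} [Field F] [Fintype F] (hF : Fintype.card F = p ^ f) (hp : p.Prime) (hf : 1 ≤ f)
    (h2 : p ^ f ≠ 2) {R : Subgroup (POmega F (quadFormPlus 4 F))} (hR : R ≠ ⊤)
    (S : Subgroup R) [S.Normal] [IsSimpleGroup S] (hna : ¬ IsMulCommutative S)
    (hC : Subgroup.centralizer (S : Set R) = ⊥) (hS : IsNamed g S) (hch : HasChar p g) :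
    DerS (quadFormPlus 4 F) R := by
  by_contra hcon
  have hcon' : ¬ Der (POmega F (quadFormPlus 4 F)) R := fun h => hcon (derS_of_der h)
  have hT := named_oplus F (n := 4) le_rfl
  rw [hF] at hT
  have key : ∀ k, 2 ≤ k → k ≤ 3 → ¬ (p = 2 ∧ f * (2 * k) = 6) := by
    rintro k hk hkn ⟨rfl, h⟩
    have h1 : f * k = 3 := by
      have : f * (2 * k) = 2 * (f * k) := by ring
      omega
    interval_cases k
    · omega
    · obtain rfl : f = 1 := by omega
      exact h2 rfl
  obtain ⟨he, hg⟩ := full_oplus hT hp hf le_rfl (key 3 (by norm_num) le_rfl) (key 2 le_rfl (by norm_num)) hR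
    (full_of_not_der hcon') S hna hC hS hch
  obtain ⟨r, hr, hlt⟩ := exists_big hp hf (n := 4) (by omega) (by
    rintro ⟨rfl, h⟩
    omega)
  refine hcon (derS_plus (by rw [Nat.card_eq_fintype_card, hF]; exact hr) le_rfl rfl R
    (cyc_four S hna hC (Or.inr hg) hS hp hf hr hlt (by omega) rfl))

end Cfsg.Agent.H304.Ela
end

-- part: H304/Ela/Geo
section
/-!
# Geometric rows for the orthogonal groups, automorphism version (helper304, for S3553)
-/

set_option autoImplicit false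
set_option linter.unusedSectionVars false

namespace Cfsg.Agent.H304.Ela

open Module QuadraticMap Cfsg Cfsg.Geo Cfsg.Agent.LieClassical Cfsg.Agent.LieClassical.OmegaReindex Cfsg.Agent.H955
open Cfsg.Agent.H884.El
open Cfsg.Agent.H396 (Der)

universe u

section S

variable {F : Type u} [Field F] [Fintype F]

theorem geo_plusS {m : ℕ} (hm : 4 ≤ m) (M : Subgroup (POmega F (quadFormPlus m F))) :
    DerS (quadFormPlus m F) M ∨ InOrthogonalResidualClass (pre (quadFormPlus m F) M) := by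
  have h : ∀ M : Subgroup (POmega F (⇑(quadPlus m F))),
      DerS (⇑(quadPlus m F)) M ∨ InOrthogonalResidualClass (pre (⇑(quadPlus m F)) M) := by
    by_cases hexc : Nat.card F = 2 ∧ m = 4
    · obtain ⟨hF, rfl⟩ := hexc
      exact eight_derS hF (card_plus 4) (nondeg_iff.2 quadPlus_nondegenerate) (isPlus_quadPlus 4) (data_plus le_rfl)
    · exact plus_derS hm (card_plus m) (nondeg_iff.2 quadPlus_nondegenerate) (isPlus_quadPlus m) hexc (data_plus hm)
  rw [coe_quadPlus] at h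
  exact h M

theorem geo_oddS {m : ℕ} (hm : 3 ≤ m) (hodd : Odd (Fintype.card F)) (M : Subgroup (POmega F (quadFormOdd m F))) :
    DerS (quadFormOdd m F) M ∨ InOrthogonalResidualClass (pre (quadFormOdd m F) M) := by
  have h2 := H390.two_ne_zero_of_odd hodd
  have h : ∀ M : Subgroup (POmega F (⇑(quadOdd m F))),
      DerS (⇑(quadOdd m F)) M ∨ InOrthogonalResidualClass (pre (⇑(quadOdd m F)) M) :=
    odd_derS h2 hm (card_odd m) (nondeg_iff.2 (quadOdd_nondegenerate h2)) (data_odd hm h2)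
  rw [coe_quadOdd] at h
  exact h M

end S

section A

variable {F : Type} [Field F] [Fintype F]

/-- `PΩ_{2m+1}(q)`, `q` odd, `m ≥ 3`. -/
theorem geo_oddA {m : ℕ} (hm : 3 ≤ m) (hodd : Odd (Fintype.card F)) (M : Subgroup (POmega F (quadFormOdd m F))) :
    Der (POmega F (quadFormOdd m F)) M ∨ InOrthogonalResidualClass (pre (quadFormOdd m F) M) :=
  (geo_oddS hm hodd M).imp_left fun h => h.der (semi_odd hm (H390.two_ne_zero_of_odd hodd))

/-- `PΩ⁺_{2m}(q)`, `m ≥ 5`. -/
theorem geo_plusA {m : ℕ} (hm : 5 ≤ m) (M : Subgroup (POmega F (quadFormPlus m F))) :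
    Der (POmega F (quadFormPlus m F)) M ∨ InOrthogonalResidualClass (pre (quadFormPlus m F) M) :=
  (geo_plusS (by omega) M).imp_left fun h => h.der (semi_plus hm)

end A

end Cfsg.Agent.H304.Ela
end

-- part: H304/Ela/SpKill
section
/-!
# Geometric classes of `Sp_2m(q)`: no semilinear image (helper304, for S3553)

After `H262/ElSymp`, `ElSympGeo`, `ElSympSix`, `ElSympPSp`, `ElSympRes` (helper262), with all semilinear images instead of the
`Sp`-conjugates.
-/

set_option autoImplicit false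

namespace Cfsg.Agent.H304.Ela.Sp

open Cfsg Cfsg.Geo Module
open Cfsg.Agent.ClassicalGeometry.SympBasic Cfsg.Agent.H876 Cfsg.Agent.H931
open Cfsg.Agent.H262.El hiding Kill kill_of_prime kill_of_tv kill_of_noFix kill_quad kill_field kill_tensor
  kill_symplecticType kill_of_irr kill_class kill_class_six kill_class' kill_of_core
open scoped Matrix MatrixGroups

variable {F : Type*} [Field F] {m : ℕ}

/-- some element of prime order of `Sp_2m(q)` has no semilinear image in `H` -/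
def KillA (m : ℕ) (F : Type*) [Field F] (H : Subgroup (GL (Fin m ⊕ Fin m) F)) : Prop :=
  ∃ x ∈ spGL m F, ∃ r : ℕ, r.Prime ∧ x ^ r = 1 ∧ ∀ g ∈ GSp m F, ∀ τ : F ≃+* F, g * mp τ x * g⁻¹ ∉ H

theorem KillA.mono {H K : Subgroup (GL (Fin m ⊕ Fin m) F)} (h : KillA m F K) (hHK : H ≤ K) : KillA m F H := by
  obtain ⟨x, hx, r, hr, hxr, h⟩ := h
  exact ⟨x, hx, r, hr, hxr, fun g hg τ hm => h g hg τ (hHK hm)⟩

/-- semilinear images of symplectic matrices are symplectic -/
theorem semi_mem {g : GL (Fin m ⊕ Fin m) F} (hg : g ∈ GSp m F) (τ : F ≃+* F) {x : GL (Fin m ⊕ Fin m) F}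
    (hx : x ∈ spGL m F) : g * mp τ x * g⁻¹ ∈ spGL m F := by
  obtain ⟨A, rfl⟩ := exists_spToGL hx
  have h1 : spToGL m F A = ss m F A := Units.ext rfl
  rw [h1]
  have h2 := conj_mem_symp hg τ A
  have h3 : g * mp τ (ss m F A) * g⁻¹ = spToGL m F ⟨_, h2⟩ := Units.ext rfl
  rw [h3]
  exact spToGL_mem _

theorem semi_pow (g : GL (Fin m ⊕ Fin m) F) (τ : F ≃+* F) {x : GL (Fin m ⊕ Fin m) F} {r : ℕ} (hxr : x ^ r = 1) :
    (g * mp τ x * g⁻¹) ^ r = 1 := by
  rw [conj_pow, ← map_pow, hxr, map_one, mul_one, mul_inv_cancel]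

theorem killA_of_prime [Finite F] {H : Subgroup (GL (Fin m ⊕ Fin m) F)} {r : ℕ} (hr : r.Prime)
    (hd : r ∣ Nat.card (spGL m F)) (h : ∀ y ∈ spGL m F, y ^ r = 1 → y ≠ 1 → y ∉ H) : KillA m F H := by
  have := Fact.mk hr
  obtain ⟨x, hx⟩ := exists_prime_orderOf_dvd_card' (G := spGL m F) r hd
  have hxr : (x : GL (Fin m ⊕ Fin m) F) ^ r = 1 := by
    have h1 : x ^ r = 1 := by rw [← hx, pow_orderOf_eq_one]
    have h2 := congrArg Subtype.val h1
    simpa only [_root_.SubmonoidClass.coe_pow, _root_.OneMemClass.coe_one] using h2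
  have hx1 : (x : GL (Fin m ⊕ Fin m) F) ≠ 1 := by
    intro h1
    have : x = 1 := Subtype.ext h1
    rw [this, orderOf_one] at hx
    exact hr.one_lt.ne hx
  refine ⟨x, x.2, r, hr, hxr, fun g hg τ => h _ (semi_mem hg τ x.2) (semi_pow g τ hxr) ?_⟩
  intro h1
  exact hx1 (mp_injective τ ((conj_eq_one_iff.1 h1).trans (map_one (mp τ)).symm))

theorem isTv_mp {g : GL (Fin m ⊕ Fin m) F} (hg : IsTv g) (τ : F ≃+* F) : IsTv (mp τ g) := by
  obtain ⟨u, w, hu, hw, huw, h⟩ := hg
  refine ⟨fun i => τ (u i), fun i => τ (w i), ?_, ?_, ?_, ?_⟩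
  · intro h0
    apply hu
    ext i
    have := congrFun h0 i
    exact τ.injective (this.trans (map_zero τ).symm)
  · intro h0
    apply hw
    ext i
    have := congrFun h0 i
    exact τ.injective (this.trans (map_zero τ).symm)
  · have h1 : (fun i => τ (w i)) ⬝ᵥ (fun i => τ (u i)) = τ (w ⬝ᵥ u) := by
      simp only [dotProduct, map_sum, map_mul, _root_.Fintype.sum_sum_type, _root_.map_add]
    rw [h1, huw, map_zero]
  · rw [coe_mp, h]
    ext i j
    simp [Matrix.vecMulVec, Matrix.one_apply, apply_ite τ]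

theorem killA_of_tv [Finite F] (hm : 1 ≤ m) {H : Subgroup (GL (Fin m ⊕ Fin m) F)}
    (h : ∀ y ∈ spGL m F, IsTv y → y ∉ H) : KillA m F H := by
  obtain ⟨p, hp⟩ := CharP.exists F
  have hpp : p.Prime := CharP.char_is_prime F p
  have hv0 : (Pi.single (Sum.inl ⟨0, by omega⟩) 1 : Fin m ⊕ Fin m → F) ≠ 0 := by
    intro h0
    have := congrFun h0 (Sum.inl ⟨0, by omega⟩)
    simp at this
  have ht := tGL_isTv hv0 (one_ne_zero (α := F))
  exact ⟨_, tGL_mem _ _, p, hpp, ht.pow_char, fun g hg τ => h _ (semi_mem hg τ (tGL_mem _ _))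
    ((isTv_mp ht τ).conj g)⟩

theorem noFix_semi {x : GL (Fin m ⊕ Fin m) F}
    (hfix : ∀ v, (x : Matrix (Fin m ⊕ Fin m) (Fin m ⊕ Fin m) F) *ᵥ v = v → v = 0) (g : GL (Fin m ⊕ Fin m) F)
    (τ : F ≃+* F) : ∀ v, ((g * mp τ x * g⁻¹ : GL (Fin m ⊕ Fin m) F) :
      Matrix (Fin m ⊕ Fin m) (Fin m ⊕ Fin m) F) *ᵥ v = v → v = 0 := by
  intro v hv
  obtain ⟨w, rfl⟩ : ∃ w : Fin m ⊕ Fin m → F,
      (g : Matrix (Fin m ⊕ Fin m) (Fin m ⊕ Fin m) F) *ᵥ (fun i => τ (w i)) = v := by
    refine ⟨fun i => τ.symm ((((g⁻¹ : GL (Fin m ⊕ Fin m) F) :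
      Matrix (Fin m ⊕ Fin m) (Fin m ⊕ Fin m) F) *ᵥ v) i), ?_⟩
    simp only [RingEquiv.apply_symm_apply]
    rw [Matrix.mulVec_mulVec, ← Units.val_mul, mul_inv_cancel, Units.val_one, Matrix.one_mulVec]
  rw [Matrix.mulVec_mulVec, ← Units.val_mul, inv_mul_cancel_right, Units.val_mul, ← Matrix.mulVec_mulVec,
    mulVec_mp] at hv
  have h1 : (fun i => τ (((x : Matrix (Fin m ⊕ Fin m) (Fin m ⊕ Fin m) F) *ᵥ w) i)) = fun i => τ (w i) := by
    have h2 := congrArg (fun u => ((g⁻¹ : GL (Fin m ⊕ Fin m) F) :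
      Matrix (Fin m ⊕ Fin m) (Fin m ⊕ Fin m) F) *ᵥ u) hv
    simp only [Matrix.mulVec_mulVec] at h2
    rwa [← Units.val_mul, inv_mul_cancel, Units.val_one, Matrix.one_mulVec, Matrix.one_mulVec] at h2
  have h3 : w = 0 := by
    apply hfix
    ext i
    exact τ.injective (congrFun h1 i)
  have h4 : (fun i => τ ((0 : Fin m ⊕ Fin m → F) i)) = 0 := by
    ext i
    simp
  rw [h3, h4, Matrix.mulVec_zero]

theorem killA_of_noFix [Fintype F] {H : Subgroup (GL (Fin m ⊕ Fin m) F)} {r : ℕ} (hr : r.Prime)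
    (hrF : (r : F) ≠ 0) (hd : r ∣ Fintype.card F + 1)
    (h : ∀ y ∈ spGL m F, y ^ r = 1 → (∀ v, (y : Matrix (Fin m ⊕ Fin m) (Fin m ⊕ Fin m) F) *ᵥ v = v → v = 0) →
      y ∉ H) : KillA m F H := by
  obtain ⟨x, hx, hxr, hfix⟩ := exists_no_fix (m := m) hr hrF hd
  exact ⟨x, hx, r, hr, hxr, fun g hg τ => h _ (semi_mem hg τ hx) (semi_pow g τ hxr) (noFix_semi hfix g τ)⟩

/-- **Orthogonal groups in characteristic two.** -/
theorem killA_quad [Fintype F] (hm : 2 ≤ m) (hF : ¬ Odd (Fintype.card F))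
    {Q : (Fin m ⊕ Fin m → F) → F} (hQ : IsNondegenerateQuadraticForm Q)
    (hbig : (∃ r, Od (Fintype.card F) (2 * m) r) ∨ Odd m) : KillA m F (quadSimilarityGroup Q ⊓ spGL m F) := by
  have hev : Even (Fintype.card F) := Nat.not_odd_iff_even.1 hF
  have hι : Fintype.card (Fin m ⊕ Fin m) = 2 * m := card_sum_fin
  -- a prime divisor of `q + 1`
  obtain ⟨s, hs, hsd⟩ := Nat.exists_prime_and_dvd (n := Fintype.card F + 1) (by
    have := Fintype.card_pos (α := F); omega)
  have hs2 : s ≠ 2 := by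
    rintro rfl
    obtain ⟨a, ha⟩ := hev
    obtain ⟨b, hb⟩ := hsd
    omega
  have hchar : CharP F 2 := by
    obtain ⟨p, hp⟩ := CharP.exists F
    have hpp : p.Prime := CharP.char_is_prime F p
    obtain ⟨n, -, hn⟩ := FiniteField.card F p
    rw [hn] at hev
    have h2 : 2 ∣ p := Nat.prime_two.dvd_of_dvd_pow (even_iff_two_dvd.1 hev)
    have h3 : 2 = p := (Nat.prime_dvd_prime_iff_eq Nat.prime_two hpp).1 h2
    rw [h3]
    exact hp
  have hsF : (s : F) ≠ 0 := by
    intro h0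
    have h1 : 2 ∣ s := (CharP.cast_eq_zero_iff F 2 s).1 h0
    exact hs2 ((Nat.prime_dvd_prime_iff_eq Nat.prime_two hs).1 h1).symm
  have hs' := Fact.mk hs
  have hsq : (Fintype.card F : ZMod s) = -1 := by
    have h1 : ((Fintype.card F + 1 : ℕ) : ZMod s) = 0 := (ZMod.natCast_eq_zero_iff _ _).2 hsd
    push_cast at h1
    linear_combination h1
  have h2s : (2 : ZMod s) ≠ 0 := by
    intro h0
    have h1 : ((2 : ℕ) : ZMod s) = 0 := by exact_mod_cast h0
    have h3 := (ZMod.natCast_eq_zero_iff 2 s).1 h1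
    exact hs2 ((Nat.prime_dvd_prime_iff_eq hs Nat.prime_two).1 h3)
  have hplus : ∀ {Q₁ Q₂ : QuadraticForm F (Fin m ⊕ Fin m → F)}, ⇑Q₁ = Q → ⇑Q₂ = Q → Q₁ = Q₂ := by
    intro Q₁ Q₂ h1 h2
    exact DFunLike.coe_injective (h1.trans h2.symm)
  obtain ⟨Q', hQ', hnd⟩ := Cfsg.Agent.H883.Bridge.exists_quadraticForm hQ
  have hdvd : ∀ {n r : ℕ}, Od (Fintype.card F) n r → n ∣ 2 * m → r ∣ Nat.card (spGL m F) := by
    intro n r hr hn
    rw [Cfsg.Agent.H955.card_spGL, Nat.card_eq_fintype_card]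
    apply Dvd.dvd.mul_left
    refine dvd_trans ?_ (Finset.dvd_prod_of_mem _ (Finset.mem_range.2 (by omega : m - 1 < m)))
    rw [hr.dvd_iff Fintype.card_pos]
    rwa [show 2 * (m - 1 + 1) = 2 * m by omega]
  by_cases hP : Cfsg.Agent.H955.IsPlus Q'
  · -- plus type
    by_cases hmo : Odd m
    · -- an element of order `s` dividing `q + 1`
      apply killA_of_noFix hs hsF hsd
      rintro y hy hyr hfix ⟨hyQ, -⟩
      rcases quad_dichotomy (m := m) (by omega) hι hs hQ hyQ hyr hfix with ⟨-, h1⟩ | ⟨⟨Q'', hQ'', hP'⟩, -⟩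
      · rw [hsq, hmo.neg_one_pow, (Nat.Odd.sub_odd hmo odd_one).neg_one_pow] at h1
        have h3 : (2 : ZMod s) * 2 = 0 := by linear_combination -h1
        rcases mul_eq_zero.1 h3 with h4 | h4 <;> exact h2s h4
      · exact hP' (hplus hQ'' hQ' ▸ hP)
    · obtain ⟨r, hr⟩ := hbig.resolve_right hmo
      have := Fact.mk hr.prime
      apply killA_of_prime hr.prime (hdvd hr dvd_rfl)
      rintro y hy hyr hy1 ⟨hyQ, -⟩
      have hfix : ∀ v, (y : Matrix (Fin m ⊕ Fin m) (Fin m ⊕ Fin m) F) *ᵥ v = v → v = 0 := by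
        intro v hv
        have h1 : fixS y = ⊥ := by
          rcases irr_of_od (by rw [hι]; exact hr) hyr hy1 (fixS y) (fun v hv => by
            rw [mem_fixS.1 hv]; exact hv) with h | h
          · exact h
          · exact absurd (fixS_eq_top h) hy1
        have h2 : v ∈ fixS y := mem_fixS.2 hv
        rwa [h1, Submodule.mem_bot] at h2
      rcases quad_dichotomy (m := m) (by omega) hι hr.prime hQ hyQ hyr hfix with ⟨-, h1⟩ | ⟨⟨Q'', hQ'', hP'⟩, -⟩
      · rcases mul_eq_zero.1 h1 with h2 | h2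
        · have h3 : 2 * m ∣ m := by
            rw [← hr.ord]
            exact orderOf_dvd_of_pow_eq_one (sub_eq_zero.1 h2)
          have := Nat.le_of_dvd (by omega) h3
          omega
        · have h3 : 2 * m ∣ 2 * (m - 1) := by
            rw [← hr.ord]
            apply orderOf_dvd_of_pow_eq_one
            have h4 : (Fintype.card F : ZMod r) ^ (m - 1) = -1 := by linear_combination h2
            rw [mul_comm, pow_mul, h4]
            ring
          have := Nat.le_of_dvd (by omega) h3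
          omega
      · exact hP' (hplus hQ'' hQ' ▸ hP)
  · -- minus type
    by_cases hme : Even m
    · apply killA_of_noFix hs hsF hsd
      rintro y hy hyr hfix ⟨hyQ, -⟩
      rcases quad_dichotomy (m := m) (by omega) hι hs hQ hyQ hyr hfix with ⟨⟨Q'', hQ'', hP'⟩, -⟩ | ⟨-, h1⟩
      · exact hP (hplus hQ' hQ'' ▸ hP')
      · have hmo : Odd (m - 1) := Nat.Even.sub_odd (by omega) hme odd_one
        rw [hsq, hme.neg_one_pow, hmo.neg_one_pow] at h1
        have h3 : (2 : ZMod s) * 2 = 0 := by linear_combination -h1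
        rcases mul_eq_zero.1 h3 with h4 | h4 <;> exact h2s h4
    · have hmo : Odd m := Nat.not_even_iff_odd.1 hme
      have hm3 : 3 ≤ m := by
        rcases hmo with ⟨k, hk⟩
        omega
      obtain ⟨f, hf⟩ : ∃ f : ℕ, 1 ≤ f ∧ Fintype.card F = 2 ^ f := by
        obtain ⟨n, -, hn⟩ := FiniteField.card F 2
        exact ⟨n, n.pos, hn⟩
      obtain ⟨r, hr⟩ : ∃ r, Od (Fintype.card F) m r := by
        by_cases h6 : f * m = 6
        · have hmf : m = 3 ∧ f = 2 := by
            have h1 : m ∣ 6 := Dvd.intro_left f h6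
            have h2 : m ≤ 6 := Nat.le_of_dvd (by norm_num) h1
            rcases hmo with ⟨k, hk⟩
            interval_cases m <;> (clear * - h6 hk; omega)
          refine ⟨7, ?_⟩
          rw [hf.2, hmf.1, hmf.2]
          refine ⟨by norm_num, ?_, by norm_num⟩
          have : Fact (Nat.Prime 3) := ⟨by norm_num⟩
          exact orderOf_eq_prime (by decide) (by decide)
        · obtain ⟨r, hr'⟩ := Cfsg.Agent.H163.PG.exists_ppd (p := 2) (f := f) (k := m) le_rfl
            (by nlinarith only [hm3, hf.1]) (fun h => h6 h.2)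
          refine ⟨r, ?_⟩
          rw [hf.2]
          exact Od.of_ppd Nat.prime_two hf.1 (by omega) hr'
      · have := Fact.mk hr.prime
        apply killA_of_prime hr.prime (hdvd hr (Dvd.intro_left 2 rfl))
        rintro y hy hyr hy1 ⟨hyQ, -⟩
        have h0 := noFix_of_odd hmo hr hy hyr hy1 (cast_ne_zero_of_od hr)
        have hfix : ∀ v, (y : Matrix (Fin m ⊕ Fin m) (Fin m ⊕ Fin m) F) *ᵥ v = v → v = 0 := by
          intro v hv
          have h2 : v ∈ fixS y := mem_fixS.2 hv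
          rwa [h0, Submodule.mem_bot] at h2
        have hqm : (Fintype.card F : ZMod r) ^ m = 1 := by
          have := pow_orderOf_eq_one (Fintype.card F : ZMod r)
          rwa [hr.ord] at this
        rcases quad_dichotomy (m := m) (by omega) hι hr.prime hQ hyQ hyr hfix with ⟨⟨Q'', hQ'', hP'⟩, -⟩ | ⟨-, h1⟩
        · exact hP (hplus hQ' hQ'' ▸ hP')
        · rw [hqm] at h1
          rcases mul_eq_zero.1 h1 with h3 | h3
          · have h4 : ((2 : ℕ) : ZMod r) = 0 := by push_cast; linear_combination h3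
            have h5 := (ZMod.natCast_eq_zero_iff 2 r).1 h4
            have h6 := Nat.le_of_dvd two_pos h5
            have := hr.lt
            omega
          · have h4 : m ∣ m - 1 := by
              conv_lhs => rw [← hr.ord]
              exact orderOf_dvd_of_pow_eq_one (sub_eq_zero.1 h3)
            have := Nat.le_of_dvd (by omega) h4
            omega

/-- normalisers of extension fields -/
theorem killA_field [Finite F] (hm : 2 ≤ m) {r : ℕ} (hr : r.Prime)
    {K : Subalgebra F (Matrix (Fin m ⊕ Fin m) (Fin m ⊕ Fin m) F)} (hK : IsFieldSubalgebra r K) :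
    KillA m F (subalgebraNormalizer K) :=
  killA_of_tv (by omega) fun y _ hy => rankOne_not_mem_subalgebraNormalizer
    (by rw [card_sum_fin]; omega) hy.isRankOneElt hr.two_le hK

/-- tensor decompositions -/
theorem killA_tensor [Finite F] (hm : 1 ≤ m) {n₁ n₂ : ℕ} (h₁ : 2 ≤ n₁) (h₂ : 2 ≤ n₂)
    (e : Fin m ⊕ Fin m ≃ Fin n₁ × Fin n₂) (P : GL (Fin m ⊕ Fin m) F) :
    KillA m F (tensorProductSubgroup n₁ n₂ e P) :=
  killA_of_tv hm fun y _ hy => hy.isRankOneElt.not_mem_tensorProductSubgroup h₁ h₂ e P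

/-- normalisers of symplectic type groups -/
theorem killA_symplecticType [Finite F] (hm : 2 ≤ m) {R : Subgroup (GL (Fin m ⊕ Fin m) F)}
    (hR : IsSymplecticTypeGroup 2 R) (habs : ActsAbsolutelyIrreducibly (matrixSet R)) :
    KillA m F (subgroupNormalizer R) := by
  refine killA_of_tv (by omega) fun y _ hy => hy.not_mem_subgroupNormalizer
    (by rw [card_sum_fin]; omega) habs ?_
  intro a ha b hb
  have h1 := Cfsg.Agent.H921.commutator_mem_center hR (fun h => absurd h (by decide)) ⟨a, ha⟩ ⟨b, hb⟩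
  obtain ⟨c, hc⟩ := Cfsg.Agent.H921.center_scalar habs _ h1
  refine ⟨c, ?_⟩
  have h2 : a * b = (a * b * a⁻¹ * b⁻¹) * (b * a) := by group
  have h3 := congrArg Units.val h2
  rw [Units.val_mul, Units.val_mul (a * b * a⁻¹ * b⁻¹), Units.val_mul b a] at h3
  rw [h3]
  have h4 : ((a * b * a⁻¹ * b⁻¹ : GL (Fin m ⊕ Fin m) F) : Matrix (Fin m ⊕ Fin m) (Fin m ⊕ Fin m) F) =
      c • (1 : Matrix (Fin m ⊕ Fin m) (Fin m ⊕ Fin m) F) := hc
  rw [h4, Matrix.smul_mul, Matrix.one_mul]

/-- the classes killed by irreducible elements of prime order -/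
theorem killA_of_irr [Fintype F] (hm : 2 ≤ m) {p f r : ℕ} (hp : p.Prime) (hf : 1 ≤ f) (hF : Fintype.card F = p ^ f)
    (hr : Cfsg.Agent.H163.PG.Ppd p (f * (2 * m)) r) :
    (∀ W : Submodule F (Fin m ⊕ Fin m → F), W ≠ ⊥ → W ≠ ⊤ → KillA m F (subspaceStabilizer W)) ∧
    (∀ (t k : ℕ) (D : Fin t → Submodule F (Fin m ⊕ Fin m → F)), IsMDecomposition k D →
      KillA m F (decompositionStabilizer D)) ∧
    (∀ (F₀ : Subfield F) (s : ℕ) (P : GL (Fin m ⊕ Fin m) F), s.Prime → Fintype.card F = Nat.card F₀ ^ s →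
      KillA m F (subfieldSubgroup F₀ P)) ∧
    (∀ (k t : ℕ) (e : (Fin m ⊕ Fin m) ≃ (Fin t → Fin k)) (P : GL (Fin m ⊕ Fin m) F), 2 ≤ k → 2 ≤ t →
      KillA m F (tensorWreathSubgroup k t e P)) := by
  have hod : Od (Fintype.card F) (2 * m) r := by
    rw [hF]
    exact Od.of_ppd hp hf (by omega) hr
  have hι : Fintype.card (Fin m ⊕ Fin m) = 2 * m := card_sum_fin
  have hd := dvd_card_spGL (by omega) hod dvd_rfl (by omega) le_rfl
  have hirr : ∀ y : GL (Fin m ⊕ Fin m) F, y ^ r = 1 → y ≠ 1 → ∀ W : Submodule F (Fin m ⊕ Fin m → F),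
      (∀ v ∈ W, (y : Matrix (Fin m ⊕ Fin m) (Fin m ⊕ Fin m) F) *ᵥ v ∈ W) → W = ⊥ ∨ W = ⊤ :=
    fun y h1 h2 => irr_of_od (by rw [hι]; exact hod) h1 h2
  refine ⟨fun W h0 h1 => ?_, fun t k D hD => ?_, fun F₀ s P hs hcard => ?_, fun k t e P hk ht => ?_⟩
  · exact killA_of_prime hod.prime hd fun y hy hyr hy1 =>
      not_mem_subspaceStabilizer_of_irr (hirr y hyr hy1) h0 h1
  · refine killA_of_prime hod.prime hd fun y hy hyr hy1 hyD => ?_
    have htk : t * k = 2 * m := by rw [Cfsg.Agent.H918.decomp_card hD, hι]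
    have ht : t ≤ 2 * m := by
      rw [← htk]
      exact Nat.le_mul_of_pos_right t hD.pos
    have h1 := fixes_of_decomposition hD hyD hod.prime (lt_of_le_of_lt ht hod.lt) hyr ⟨0, by
      have := hD.two_le; omega⟩
    rcases hirr y hyr hy1 _ h1 with h2 | h2
    · exact Cfsg.Agent.H918.decomp_ne_bot hD _ h2
    · have h3 := hD.finrank_eq ⟨0, by have := hD.two_le; omega⟩
      rw [h2, finrank_top, Module.finrank_fintype_fun_eq_card, hι] at h3
      have h4 := hD.two_le
      have h5 := hD.pos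
      have h6 : 2 * k ≤ t * k := Nat.mul_le_mul_right k h4
      omega
  · refine killA_of_prime hod.prime hd fun y hy hyr hy1 hyD => hy1 ?_
    -- `|F₀| = p ^ f₀`, `f = f₀ s`
    obtain ⟨f₀, hf₀1, hf₀, hfs⟩ : ∃ f₀ : ℕ, 1 ≤ f₀ ∧ Nat.card F₀ = p ^ f₀ ∧ f = f₀ * s := by
      have h1 : Nat.card F₀ ∣ p ^ f := by
        rw [← hF, hcard]
        exact dvd_pow_self _ hs.ne_zero
      obtain ⟨f₀, -, hf₀⟩ := (Nat.dvd_prime_pow hp).1 h1
      refine ⟨f₀, ?_, hf₀, ?_⟩
      · rcases Nat.eq_zero_or_pos f₀ with h0 | h0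
        · exfalso
          rw [h0, pow_zero] at hf₀
          rw [hf₀, one_pow] at hcard
          have := Fintype.one_lt_card (α := F)
          omega
        · exact h0
      · rw [hF, hf₀, ← pow_mul] at hcard
        exact Nat.pow_right_injective hp.two_le hcard
    have hdvd : ∀ j, r ∣ p ^ j - 1 ↔ f * (2 * m) ∣ j := hr.dvd_iff hp.one_lt.le
    have hs2 := hs.two_le
    refine eq_one_of_mem_subfieldSubgroup hyD hod.prime hyr ?_ ?_ ?_
    · intro h
      rw [hf₀] at h
      have h1 := hod.prime.dvd_of_dvd_pow h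
      apply hod.ndvd
      rw [hF]
      exact h1.trans (dvd_pow_self p (by omega))
    · rw [hF, hdvd]
      intro h
      have := Nat.le_of_dvd hf h
      nlinarith only [hm, hf, this]
    · intro j hj1 hj2
      rw [hf₀, ← pow_mul, hdvd]
      intro h
      have h1 := Nat.le_of_dvd (Nat.mul_pos hf₀1 hj1) h
      rw [hι] at hj2
      have h2 : f₀ * j ≤ f₀ * (2 * m) := Nat.mul_le_mul_left _ hj2
      have h3 : f₀ < f := by
        rw [hfs]
        nlinarith only [hf₀1, hs2]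
      have h4 : f₀ * (2 * m) < f * (2 * m) := Nat.mul_lt_mul_of_pos_right h3 (by omega)
      omega
  · refine killA_of_prime hod.prime hd fun y hy hyr hy1 hyD => hy1 ?_
    have hkt : k ^ t = 2 * m := by
      have h1 := Fintype.card_congr e
      rw [hι, Fintype.card_fun, Fintype.card_fin, Fintype.card_fin] at h1
      exact h1.symm
    have htm : t < 2 * m := by
      rw [← hkt]
      exact lt_of_lt_of_le Nat.lt_two_pow_self (Nat.pow_le_pow_left hk t)
    have hkm : k < 2 * m := by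
      rw [← hkt]
      calc k = k ^ 1 := (pow_one k).symm
        _ < k ^ t := Nat.pow_lt_pow_right (by omega) (by omega)
    refine eq_one_of_mem_tensorWreathSubgroup hyD hod.prime hyr (htm.trans hod.lt) hod.ndvd ?_
    intro j hj1 hj2
    rw [hod.dvd_iff Fintype.card_pos]
    intro h
    have := Nat.le_of_dvd hj1 h
    omega

/-- **Members of the geometric classes of `Sp_2m(q)`, `(m, q) ≠ (3, 2)`.** -/
theorem killA_class [Fintype F] (hm : 2 ≤ m) (h32 : ¬ (m = 3 ∧ Fintype.card F = 2))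
    {M : Subgroup (GL (Fin m ⊕ Fin m) F)} (hM : InSymplecticClass m F M) : KillA m F M := by
  obtain ⟨p, hp⟩ := CharP.exists F
  have hpp : p.Prime := CharP.char_is_prime F p
  obtain ⟨f, hf1, hF⟩ : ∃ f : ℕ, 1 ≤ f ∧ Fintype.card F = p ^ f := by
    obtain ⟨n, -, hn⟩ := FiniteField.card F p
    exact ⟨n, n.pos, hn⟩
  have hι : Fintype.card (Fin m ⊕ Fin m) = 2 * m := card_sum_fin
  obtain ⟨r, hr⟩ := Cfsg.Agent.H163.PG.exists_ppd (p := p) (f := f) (k := 2 * m) hpp.two_le
    (by nlinarith only [hm, hf1]) (by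
      rintro ⟨h2, h6⟩
      apply h32
      have h3 : f * m = 3 := by
        have : f * (2 * m) = 2 * (f * m) := by ring
        omega
      have h4 : m ∣ 3 := Dvd.intro_left f h3
      have h5 : m = 3 := by
        rcases (Nat.dvd_prime Nat.prime_three).1 h4 with h | h
        · omega
        · exact h
      have h6 : f = 1 := by subst h5; omega
      exact ⟨h5, by rw [hF, h2, h6, pow_one]⟩)
  obtain ⟨k1, k2, k5, k7⟩ := killA_of_irr hm hpp hf1 hF hr
  have hod : Od (Fintype.card F) (2 * m) r := by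
    rw [hF]
    exact Od.of_ppd hpp hf1 (by omega) hr
  rcases hM with hM | hM | hM | hM | hM
  · rcases hM with hM | hM | hM | hM | hM | hM | hM
    · obtain ⟨W, hW0, hW, rfl⟩ := hM
      exact (k1 W hW0 (totallySingular_ne_top (by omega) hW)).mono inf_le_left
    · obtain ⟨W, hW0, hW, hW2, rfl⟩ := hM
      refine (k1 W hW0 ?_).mono inf_le_left
      rintro rfl
      rw [finrank_top, Module.finrank_fintype_fun_eq_card, hι] at hW2
      omega
    · obtain ⟨t, k, D, hD, rfl⟩ := hM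
      exact (k2 t k D hD.decomp).mono inf_le_left
    · obtain ⟨D, -, hD, -, rfl⟩ := hM
      exact (k2 2 m D hD).mono inf_le_left
    · obtain ⟨F₀, s, P, ζ, hs, hcard, -, -, rfl⟩ := hM
      exact (k5 F₀ s P hs hcard).mono inf_le_left
    · obtain ⟨R, p', k, hR, habs, -, -, -, -, -, -, -, rfl⟩ := hM
      exact (killA_symplecticType hm hR habs).mono inf_le_left
    · obtain ⟨Q, hodd, hQ, -, rfl⟩ := hM
      exact killA_quad hm hodd hQ (Or.inl ⟨r, hod⟩)
  · obtain ⟨s, K, hs, hK, -, -, rfl⟩ := hM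
    exact (killA_field hm hs hK).mono inf_le_left
  · obtain ⟨K, -, hK, -, -, rfl⟩ := hM
    exact (killA_field hm Nat.prime_two hK).mono inf_le_left
  · obtain ⟨n₁, n₂, e, P, f₁, f₂, -, hn2, hf₁, -, -, rfl⟩ := hM
    refine (killA_tensor (by omega) (two_le_of_symp hf₁ ?_) (by omega) e P).mono inf_le_left
    rintro rfl
    have h1 := Fintype.card_congr e
    rw [hι, Fintype.card_prod, Fintype.card_fin, zero_mul] at h1
    omega
  · obtain ⟨k, t, e, P, f₁, -, -, ht, -, hf₁, -, rfl⟩ := hM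
    refine (k7 k t e P (two_le_of_symp hf₁ ?_) (by omega)).mono inf_le_left
    rintro rfl
    have h1 := Fintype.card_congr e
    rw [hι, Fintype.card_fun, Fintype.card_fin, Fintype.card_fin, zero_pow (by omega)] at h1
    omega

/-- **Members of the geometric classes of `Sp_6(2)`.** -/
theorem killA_class_six [Fintype F] (hF : Fintype.card F = 2)
    {M : Subgroup (GL (Fin 3 ⊕ Fin 3) F)} (hM : InSymplecticClass 3 F M) : KillA 3 F M := by
  have hι : Fintype.card (Fin 3 ⊕ Fin 3) = 6 := card_sum_fin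
  have h7 : Od (Fintype.card F) 3 7 := by rw [hF]; exact od_two_three
  have h5 : Od (Fintype.card F) 4 5 := by rw [hF]; exact od_two_four
  have hodd : ¬ Odd (Fintype.card F) := by rw [hF]; decide
  have hd7 := dvd_card_spGL (F := F) (m := 3) (by omega) h7 (k := 3) (by norm_num) (by omega) le_rfl
  have hd5 := dvd_card_spGL (F := F) (m := 3) (by omega) h5 (k := 2) (by norm_num) (by omega) (by omega)
  have key7 : ∀ y ∈ spGL 3 F, y ^ 7 = 1 → y ≠ 1 → ∀ W : Submodule F (Fin 3 ⊕ Fin 3 → F),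
      (∀ v ∈ W, (y : Matrix (Fin 3 ⊕ Fin 3) (Fin 3 ⊕ Fin 3) F) *ᵥ v ∈ W) → 3 ∣ finrank F W := by
    intro y hy hyr hy1 W hW
    have h0 := noFix_of_odd (m := 3) (by decide) h7 hy hyr hy1 (cast_ne_zero_of_od h7)
    have h1 := finrank_inv h7 hyr W hW
    rwa [h0, inf_bot_eq, finrank_bot, Nat.sub_zero] at h1
  have k1 : ∀ W : Submodule F (Fin 3 ⊕ Fin 3 → F), W ≠ ⊥ → W ≠ ⊤ → KillA 3 F (subspaceStabilizer W) := by
    intro W hW0 hW1
    have hle := Submodule.finrank_le W
    rw [Module.finrank_fintype_fun_eq_card, hι] at hle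
    by_cases h3 : 3 ∣ finrank F W
    · have hW3 : finrank F W = 3 := by
        have h4 : finrank F W ≠ 0 := fun h => hW0 (Submodule.finrank_eq_zero.1 h)
        have h5 : finrank F W ≠ 6 := fun h => hW1 (Submodule.eq_top_of_finrank_eq (by
          rw [h, Module.finrank_fintype_fun_eq_card, hι]))
        omega
      refine killA_of_prime h5.prime hd5 fun y hy hyr hy1 hyW => ?_
      have h1 := finrank_fixS h5 hyr
      have h2 := finrank_fixS_lt hy1
      rw [hι] at h1 h2
      have h4 := finrank_inv h5 hyr W (fun v hv => (Cfsg.Agent.H918.mem_subspaceStabilizer.1 hyW v).1 hv)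
      have h6 : finrank F (W ⊓ fixS y : Submodule F (Fin 3 ⊕ Fin 3 → F)) ≤ finrank F (fixS y) :=
        Submodule.finrank_mono inf_le_right
      (clear * - hW3 h1 h2 h4 h6; omega)
    · exact killA_of_prime h7.prime hd7 fun y hy hyr hy1 hyW => h3 (key7 y hy hyr hy1 W
        (fun v hv => (Cfsg.Agent.H918.mem_subspaceStabilizer.1 hyW v).1 hv))
  rcases hM with hM | hM | hM | hM | hM
  · rcases hM with hM | hM | hM | hM | hM | hM | hM
    · obtain ⟨W, hW0, hW, rfl⟩ := hM
      exact (k1 W hW0 (totallySingular_ne_top (by omega) hW)).mono inf_le_left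
    · obtain ⟨W, hW0, hW, hW2, rfl⟩ := hM
      refine (k1 W hW0 ?_).mono inf_le_left
      rintro rfl
      rw [finrank_top, Module.finrank_fintype_fun_eq_card, hι] at hW2
      omega
    · obtain ⟨t, k, D, hD, rfl⟩ := hM
      refine KillA.mono ?_ inf_le_left
      refine killA_of_prime h7.prime hd7 fun y hy hyr hy1 hyD => ?_
      have h2 := hD.decomp.two_le
      have htk : t * k = 6 := by rw [Cfsg.Agent.H918.decomp_card hD.decomp, hι]
      have hk := hD.decomp.pos
      have ht : t ≤ 6 := by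
        rw [← htk]
        exact Nat.le_mul_of_pos_right t hk
      have h1 := fixes_of_decomposition hD.decomp hyD h7.prime (by omega) hyr ⟨0, by omega⟩
      have h3 := key7 y hy hyr hy1 _ h1
      rw [hD.decomp.finrank_eq] at h3
      have h4 := even_of_isNondegenerateOn Cfsg.Agent.H924.isSymplecticForm_sympForm
          (hD.nondegenerate ⟨0, by omega⟩)
      rw [hD.decomp.finrank_eq] at h4
      obtain ⟨l, rfl⟩ := h4
      obtain ⟨c, hc⟩ := h3
      have h6 : 6 ≤ l + l := by omega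
      have : 2 * (l + l) ≤ t * (l + l) := Nat.mul_le_mul_right _ h2
      omega
    · obtain ⟨D, ho, -⟩ := hM
      exact absurd ho hodd
    · obtain ⟨F₀, s, P, ζ, hs, hcard, -⟩ := hM
      exfalso
      rw [hF] at hcard
      have h1 : 1 < Nat.card F₀ := Finite.one_lt_card
      have h2 : 2 ^ 2 ≤ Nat.card F₀ ^ s := (Nat.pow_le_pow_left h1 2).trans
        (Nat.pow_le_pow_right (by omega) hs.two_le)
      omega
    · obtain ⟨R, p', k, -, -, -, hp, ho, hcard, -⟩ := hM
      rw [← hcard] at ho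
      exact absurd ho hodd
    · obtain ⟨Q, ho, hQ, -, rfl⟩ := hM
      exact killA_quad (by omega) ho hQ (Or.inr (by decide))
  · obtain ⟨s, K, hs, hK, -, -, rfl⟩ := hM
    exact (killA_field (by omega) hs hK).mono inf_le_left
  · obtain ⟨K, ho, -⟩ := hM
    exact absurd ho hodd
  · obtain ⟨n₁, n₂, e, P, f₁, f₂, ho, -⟩ := hM
    exact absurd ho hodd
  · obtain ⟨k, t, e, P, f₁, ho, -⟩ := hM
    exact absurd ho hodd

/-- **Members of the geometric classes of `Sp_2m(q)`, `m ≥ 2`.** -/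
theorem killA_class' {m : ℕ} [Fintype F] (hm : 2 ≤ m)
    {M : Subgroup (GL (Fin m ⊕ Fin m) F)} (hM : InSymplecticClass m F M) : KillA m F M := by
  by_cases h32 : m = 3 ∧ Fintype.card F = 2
  · obtain ⟨rfl, hF⟩ := h32
    exact killA_class_six hF hM
  · exact killA_class hm h32 hM

/-! ### From `Sp` to `PSp` -/

theorem not_mem_of_killA {R : Subgroup (PSp m F)} (h : KillA m F (pre R))
    (hA : ∀ α : MulAut (PSp m F), ∃ (A : GL (Fin m ⊕ Fin m) F) (τ : F ≃+* F), A ∈ GSp m F ∧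
      IsInducedBySemilinearPSp A τ α) : H396.Der (PSp m F) R := by
  obtain ⟨x, hx, r, hr, hxr, hno⟩ := h
  obtain ⟨A, rfl⟩ := exists_spToGL hx
  have hsA : spToGL m F A = ss m F A := Units.ext rfl
  have hA' : A ^ r = 1 := by
    apply spToGL_injective
    rw [map_pow, map_one]
    exact hxr
  refine ⟨(QuotientGroup.mk A : PSp m F), ?_, ?_⟩
  · have h1 : (QuotientGroup.mk A : PSp m F) ≠ 1 := by
      intro h1
      have h3 : (1 : PSp m F) = QuotientGroup.mk 1 := rfl
      have hz : A ∈ Subgroup.center (Matrix.symplecticGroup (Fin m) F) := (QuotientGroup.eq_one_iff A).1 h1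
      have h2 : spToGL m F A ∈ scalars (Fin m ⊕ Fin m) F ⊓ spGL m F := by
        refine ⟨?_, spToGL_mem A⟩
        obtain ⟨c, hc⟩ := (LieClassical.SympCenter.mem_center_iff m A).1 hz
        change spToGL m F A ∈ scalars (Fin m ⊕ Fin m) F
        rw [mem_scalars_iff]
        have hc0 : c ≠ 0 := by
          rintro rfl
          have h4 : (A : Matrix (Fin m ⊕ Fin m) (Fin m ⊕ Fin m) F) = 0 := by rw [hc, zero_smul]
          have h5 := SymplecticGroup.symplectic_det A.2
          rw [h4] at h5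
          rcases isEmpty_or_nonempty (Fin m ⊕ Fin m) with hι | hι
          · apply hno 1 (GSp m F).one_mem (RingEquiv.refl F)
            have : (1 * mp (RingEquiv.refl F) (spToGL m F A) * 1⁻¹ : GL (Fin m ⊕ Fin m) F) = 1 :=
              Units.ext (Subsingleton.elim _ _)
            rw [this]
            exact (pre R).one_mem
          · rw [Matrix.det_zero] at h5
            exact not_isUnit_zero h5
        exact ⟨Units.mk0 c hc0, hc⟩
      have h4 := scalars_le_pre R h2
      apply hno 1 (GSp m F).one_mem (RingEquiv.refl F)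
      have h5 : mp (RingEquiv.refl F) (spToGL m F A) = spToGL m F A := by
        apply Units.ext
        rw [coe_mp]
        ext i j
        rfl
      rw [h5, one_mul, inv_one, mul_one]
      exact h4
    have h2 : (QuotientGroup.mk A : PSp m F) ^ r = 1 := by
      rw [← QuotientGroup.mk_pow, hA']
      rfl
    rcases (Nat.dvd_prime hr).1 (orderOf_dvd_of_pow_eq_one h2) with h3 | h3
    · exact absurd (orderOf_eq_one_iff.1 h3) h1
    · rw [h3]
      exact hr
  · intro α hα
    obtain ⟨g, τ, hg, hind⟩ := hA α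
    let B : Matrix.symplecticGroup (Fin m) F := ⟨_, conj_mem_symp hg τ A⟩
    have hB : ss m F B = g * mp τ (ss m F A) * g⁻¹ := Units.ext rfl
    have hB' : spToGL m F B = ss m F B := Units.ext rfl
    have h1 : α (QuotientGroup.mk A) = QuotientGroup.mk B := by
      apply hind
      rw [← coe_ss B, hB, Units.val_mul, Units.val_mul, coe_mp, coe_ss]
    apply hno g hg τ
    rw [hsA, ← hB, ← hB', mem_pre, ← h1]
    exact hα

/-- **Proper subgroups of `PSp_2m(q)`, `(m, q) ≠ (2, 2^f)`**: a class under the automorphism group of elements of prime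
order is missed, or the residual class. -/
theorem der_or_residual [Fintype F] (hm : 2 ≤ m) (h : 3 ≤ m ∨ (2 : F) ≠ 0)
    {R : Subgroup (PSp m F)} (hR : R ≠ ⊤) :
    H396.Der (PSp m F) R ∨ InSymplecticResidualClass (pre R) := by
  have hex : ¬ (m = 2 ∧ Fintype.card F = 2) := by
    rintro ⟨h1, h2⟩
    rcases h with h | h
    · omega
    · apply h
      have h3 : ((Fintype.card F : ℕ) : F) = 0 := FiniteField.cast_card_eq_zero F
      rw [h2] at h3
      exact_mod_cast h3
  rcases Cfsg.Agent.S5662.result m hm hex (pre R) (pre_le R) (by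
    rw [sup_eq_left.2 (scalars_le_pre R)]
    exact pre_ne hR) with ⟨M, hM, hle⟩ | h'
  · exact Or.inl (not_mem_of_killA ((killA_class' hm hM).mono hle) (H198.SympGamma.exists_pair hm h))
  · exact Or.inr h'

/-- similitudes and transvections -/
theorem tGL_semi {g : GL (Fin m ⊕ Fin m) F} (hg : g ∈ GSp m F) (τ : F ≃+* F) (a : Fin m ⊕ Fin m → F) (c : F) :
    ∃ d : F, (c ≠ 0 → d ≠ 0) ∧ g * mp τ (tGL a c) * g⁻¹ =
      tGL ((g : Matrix (Fin m ⊕ Fin m) (Fin m ⊕ Fin m) F) *ᵥ fun i => τ (a i)) d := by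
  obtain ⟨l, hl⟩ := hg
  refine ⟨τ c * (l : F)⁻¹, fun hc => mul_ne_zero ((map_ne_zero τ).2 hc) (inv_ne_zero l.ne_zero), ?_⟩
  rw [mul_inv_eq_iff_eq_mul]
  apply Units.ext
  apply Matrix.toLin'.injective
  apply LinearMap.ext
  intro v
  obtain ⟨v, rfl⟩ : ∃ w : Fin m ⊕ Fin m → F, (fun i => τ (w i)) = v :=
    ⟨fun i => τ.symm (v i), by ext i; simp⟩
  rw [Matrix.toLin'_apply, Matrix.toLin'_apply, Units.val_mul, Units.val_mul, ← Matrix.mulVec_mulVec, mulVec_mp,
    ← Matrix.mulVec_mulVec, tGL_mulVec, tGL_mulVec, hl, H198.SympGamma.sympForm_map]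
  have h1 : (fun i => τ ((v + (c * sympForm m F v a) • a) i)) =
      (fun i => τ (v i)) + (τ c * τ (sympForm m F v a)) • fun i => τ (a i) := by
    ext i
    simp
  rw [h1, Matrix.mulVec_add, Matrix.mulVec_smul]
  congr 2
  field_simp

/-- The residual class of `Sp_2m(q)`, `q` odd, is killed by the transvections. -/
theorem killA_of_core [Finite F] (h2 : (2 : F) ≠ 0) (hm : 2 ≤ m) {H : Subgroup (GL (Fin m ⊕ Fin m) F)}
    (hH : H ≤ spGL m F) (hne : ¬ spGL m F ≤ H) {P : Subgroup (GL (Fin m ⊕ Fin m) F)}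
    (hP : IsResidualCore H P) : KillA m F H := by
  obtain ⟨p, hp⟩ := CharP.exists F
  have hpp : p.Prime := CharP.char_is_prime F p
  have hv0 : (Pi.single (Sum.inl ⟨0, by omega⟩) 1 : Fin m ⊕ Fin m → F) ≠ 0 := by
    intro h0
    have := congrFun h0 (Sum.inl ⟨0, by omega⟩)
    simp at this
  have ht := tGL_isTv hv0 (one_ne_zero (α := F))
  refine ⟨_, tGL_mem _ _, p, hpp, ht.pow_char, fun g hg τ => ?_⟩
  obtain ⟨d, hd, he⟩ := tGL_semi hg τ (Pi.single (Sum.inl ⟨0, by omega⟩) 1) 1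
  rw [he]
  refine no_tGL_of_core h2 hm hH hne hP ?_ (hd one_ne_zero)
  intro h0
  apply hv0
  have h1 := congrArg (fun u => ((g⁻¹ : GL (Fin m ⊕ Fin m) F) :
      Matrix (Fin m ⊕ Fin m) (Fin m ⊕ Fin m) F) *ᵥ u) h0
  simp only [Matrix.mulVec_mulVec] at h1
  rw [← Units.val_mul, inv_mul_cancel, Units.val_one, Matrix.one_mulVec, Matrix.mulVec_zero] at h1
  ext i
  have h3 := congrFun h1 i
  exact τ.injective (h3.trans (map_zero τ).symm)

/-- **Every proper subgroup of `PSp_2m(q)`, `m ≥ 2`, `q` odd, misses a class under the automorphism group of elements of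
prime order.** -/
theorem der_odd [Fintype F] (hm : 2 ≤ m) (hq : Odd (Fintype.card F)) {R : Subgroup (PSp m F)} (hR : R ≠ ⊤) :
    H396.Der (PSp m F) R := by
  have h2 := two_ne_zero_of_odd hq
  rcases der_or_residual hm (Or.inr h2) hR with h | ⟨P, hP, -⟩
  · exact h
  · apply not_mem_of_killA _ (H198.SympGamma.exists_pair hm (Or.inr h2))
    exact killA_of_core h2 hm (pre_le R) (fun hle => pre_ne hR (le_antisymm (pre_le R) hle)) hP

theorem clMaxA_odd [Fintype F] (hm : 2 ≤ m) (hq : Odd (Fintype.card F)) : H278.El.ClMaxA (PSp m F) :=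
  fun _ hM => der_odd hm hq hM.1

end Cfsg.Agent.H304.Ela.Sp
end

-- part: H304/Ela/FamA
section
/-!
# The classical families, automorphism version (helper304, for S3553)
-/

set_option autoImplicit false

namespace Cfsg.Agent.H304.Ela

open Cfsg Cfsg.Geo Cfsg.Agent.OrdDiv Cfsg.Agent.H436 Cfsg.Agent.H264.FKS Cfsg.Agent.H915.GN Cfsg.Agent.H278.El
open Cfsg.Agent.H278.El.Asm
open Cfsg.Agent.H278.El.SporNum (IsCl exc)
open Cfsg.Agent.H278.El.AltNum (dimOf surv alt_main)
open Cfsg.Agent.H884.Cx (excP cross_row)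
open Cfsg.Agent.H396 (Der)
open scoped MatrixGroups

/-- the cross characteristic rows, missing primes -/
structure CrossRowsM : Prop where
  psl : ∀ {F : Type} [Field F] [Fintype F] {n p : ℕ}, p.Prime → p ∣ Fintype.card F → 4 ≤ n →
    ¬ (Fintype.card F = 2 ∧ (n = 4 ∨ n = 6 ∨ n = 7)) → ¬ (Fintype.card F = 4 ∧ n = 4) →
    CrossRowM p (Matrix.ProjectiveSpecialLinearGroup (Fin n) F) (Fin n) F
  psp : ∀ {F : Type} [Field F] [Fintype F] {m p : ℕ}, p.Prime → p ∣ Fintype.card F → 3 ≤ m →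
    ¬ Odd (Fintype.card F) → ¬ (Fintype.card F = 2 ∧ m ≤ 4) → CrossRowM p (PSp m F) (Fin m ⊕ Fin m) F
  psu : ∀ {F : Type} [Field F] [Fintype F] {n p q : ℕ}, Fintype.card F = q ^ 2 → p.Prime → p ∣ q → 4 ≤ n →
    ¬ (q = 2 ∧ n ≤ 6) → ¬ (n = 4 ∧ q = 3) → CrossRowM p (PSU n F q) (Fin n) F
  oodd : ∀ {F : Type} [Field F] [Fintype F] {m p : ℕ}, p.Prime → p ∣ Fintype.card F → 3 ≤ m →
    Odd (Fintype.card F) → CrossRowM p (POmega F (quadFormOdd m F)) (Unit ⊕ (Fin m ⊕ Fin m)) F
  oplus : ∀ {F : Type} [Field F] [Fintype F] {m p : ℕ}, p.Prime → p ∣ Fintype.card F → 4 ≤ m →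
    ¬ (Fintype.card F = 2 ∧ m ≤ 5) → CrossRowM p (POmega F (quadFormPlus m F)) (Fin m ⊕ Fin m) F
  ominus : ∀ {F : Type} [Field F] [Fintype F] {m p : ℕ} {a b : F}, p.Prime → p ∣ Fintype.card F → 4 ≤ m →
    (∀ z₁ z₂ : F, z₁ ^ 2 + a * z₁ * z₂ + b * z₂ ^ 2 = 0 → z₁ = 0 ∧ z₂ = 0) →
    ¬ (Fintype.card F = 2 ∧ m = 4) →
    CrossRowM p (POmega F (quadFormMinus (m - 1) F a b)) ((Fin (m - 1) ⊕ Fin (m - 1)) ⊕ Fin 2) F

theorem crossRowsM (hs : Surv) : CrossRowsM where
  psl := fun {F} _ _ => (crossRows hs).psl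
  psp := by
    intro F _ _ m p hp hpF hm hodd h2 R hR S hSn hSs hna hC H P hP e s g hsp hne hS hch
    have hfin : Finite (PSp m F) := Quotient.finite _
    have hT : IsNamed (.psp m (Fintype.card F)) (PSp m F) := named_psp (F := F) (n := m) (by omega) (by omega)
    rcases cross_gen hp hT trivial (hasChar_card hp hpF) (by
        rw [Fintype.card_sum, Fintype.card_fin]; exact (two_mul m).symm) hpF S hSn hSs hna hC hP e
      hsp hne hS hch with h | h
    · exact h
    · simp only [excP, List.mem_cons, Prod.mk.injEq, Grp.psp.injEq, reduceCtorEq, and_false, false_and, or_false,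
        false_or, List.not_mem_nil] at h
      omega
  psu := fun {F} _ _ => (crossRows hs).psu
  oodd := by
    intro F _ _ m p hp hpF hm hodd R hR S hSn hSs hna hC H P hP e s g hsp hne hS hch
    have hfin : Finite (POmega F (quadFormOdd m F)) := Quotient.finite _
    have hT : IsNamed (.oodd m (Fintype.card F)) (POmega F (quadFormOdd m F)) := named_oodd (F := F) hm hodd
    have hι : Fintype.card (Unit ⊕ (Fin m ⊕ Fin m)) = 2 * m + 1 := by
      rw [Fintype.card_sum, Fintype.card_sum, Fintype.card_fin, Fintype.card_unit]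
      omega
    rcases cross_gen hp hT trivial (hasChar_card hp hpF) hι hpF S hSn hSs hna hC hP e
      hsp hne hS hch with h | h
    · exact h
    · simp only [excP, List.mem_cons, Prod.mk.injEq, Grp.oodd.injEq, reduceCtorEq, and_false, or_false,
        false_or, List.not_mem_nil] at h
      obtain ⟨rfl, rfl, h3⟩ := h
      obtain ⟨e⟩ := e
      exact (hs.sz h3 (by rw [hι]; omega) hP e hS).elim
  oplus := by
    intro F _ _ m p hp hpF hm h2 R hR S hSn hSs hna hC H P hP e s g hsp hne hS hch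
    have hfin : Finite (POmega F (quadFormPlus m F)) := Quotient.finite _
    have hT : IsNamed (.oplus m (Fintype.card F)) (POmega F (quadFormPlus m F)) := named_oplus (F := F) hm
    have hι : Fintype.card (Fin m ⊕ Fin m) = 2 * m := by
      rw [Fintype.card_sum, Fintype.card_fin]; exact (two_mul m).symm
    rcases cross_gen hp hT trivial (hasChar_card hp hpF) hι hpF S hSn hSs hna hC hP e
      hsp hne hS hch with h | h
    · exact h
    · simp only [excP, List.mem_cons, Prod.mk.injEq, Grp.oplus.injEq, reduceCtorEq, and_false, or_false,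
        false_or, List.not_mem_nil] at h
      rcases h with ⟨rfl, rfl, h3⟩ | ⟨rfl, rfl, h3⟩
      · exact (hs.g2 h3 hR S hSn hC hS).elim
      · obtain ⟨e⟩ := e
        exact (hs.sz h3 (by rw [hι]) hP e hS).elim
  ominus := fun {F} _ _ => (crossRows hs).ominus

variable {F : Type} [Field F] [Fintype F]

/-- **`PSp_2m(q)`, `m ≥ 3`**, except `Sp6(2)`, `Sp8(2)`. -/
theorem psp_row (tab : OrderTable.{0}) (hK : Kn) {p : ℕ} (hp : p.Prime) (hpF : p ∣ Fintype.card F) {m : ℕ}
    (hn : 3 ≤ m) (h2 : ¬ (Fintype.card F = 2 ∧ m ≤ 4))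
    (hc : CrossRowM p (PSp m F) (Fin m ⊕ Fin m) F) {R : Subgroup (PSp m F)} (hR : R ≠ ⊤) : Der (PSp m F) R := by
  have hT : IsNamed (.psp m (Fintype.card F)) (PSp m F) := named_psp (F := F) (n := m) (by omega) (by omega)
  have hfin : Finite (PSp m F) := Quotient.finite _
  rcases Sp.der_or_residual (by omega) (.inl hn) hR with h | ⟨P, hP, -⟩
  · exact h
  · obtain ⟨S, hSn, hSs, hna, hC, ⟨e⟩⟩ := exists_socle
      (Cfsg.Agent.H876.spToGL m F) H262.El.spToGL_injective _ (QuotientGroup.mk'_surjective _) hker_sp hP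
    obtain ⟨g, hg⟩ := named_of_simple tab hK hna
    refine res_kill (p := p) hT trivial ?_ ?_ S hC hg e ?_ der_of_miss ?_ ?_
    · simp only [surv, List.mem_cons, Grp.psp.injEq, reduceCtorEq, or_false, false_or, List.not_mem_nil, not_or]
      exact ⟨by omega, by omega, by omega, by omega⟩
    · intro g' hg'
      simp only [exc, List.mem_cons, Prod.mk.injEq, reduceCtorEq, and_false, or_false, List.not_mem_nil] at hg'
    · rw [Fintype.card_sum, Fintype.card_fin]
      exact (two_mul m).symm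
    · exact fun hch => charRowA_psp hp hpF hT hn h2 R hR S hSn hSs hna hC g hg hch
    · exact fun s hs hsp hch => der_of_miss (hc R hR S hSn hSs hna hC _ P hP ⟨e⟩ s g hs hsp hg hch)

/-- **`Ω_{2m+1}(q)`, `q` odd, `m ≥ 3`.** -/
theorem oodd_row (tab : OrderTable.{0}) (hK : Kn) {p : ℕ} (hp : p.Prime) (hpF : p ∣ Fintype.card F) {m : ℕ}
    (hm : 3 ≤ m) (hodd : Odd (Fintype.card F))
    (hc : CrossRowM p (POmega F (quadFormOdd m F)) (Unit ⊕ (Fin m ⊕ Fin m)) F)
    {R : Subgroup (POmega F (quadFormOdd m F))} (hR : R ≠ ⊤) : Der _ R := by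
  have hT : IsNamed (.oodd m (Fintype.card F)) (POmega F (quadFormOdd m F)) := named_oodd (F := F) hm hodd
  have hfin : Finite (POmega F (quadFormOdd m F)) := Quotient.finite _
  rcases geo_oddA hm hodd R with h | ⟨P, hP, -⟩
  · exact h
  · obtain ⟨S, hSn, hSs, hna, hC, ⟨e⟩⟩ := exists_res_odd hm hodd (M := R) hP
    obtain ⟨g, hg⟩ := named_of_simple tab hK hna
    refine res_kill (p := p) hT trivial ?_ ?_ S hC hg e ?_ der_of_miss ?_ ?_
    · simp only [surv, List.mem_cons, reduceCtorEq, or_false, List.not_mem_nil, not_false_eq_true]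
    · intro g' hg'
      simp only [exc, List.mem_cons, Prod.mk.injEq, reduceCtorEq, and_false, or_false, List.not_mem_nil] at hg'
    · rw [Fintype.card_sum, Fintype.card_sum, Fintype.card_fin, Fintype.card_unit]
      change 1 + (m + m) = 2 * m + 1
      omega
    · exact fun hch => charRowA_oodd hp hpF hT R hR S hSn hSs hna hC g hg hch
    · exact fun s hs hsp hch => der_of_miss (hc R hR S hSn hSs hna hC _ P hP ⟨e⟩ s g hs hsp hg hch)

/-- the residual class of `PΩ^+_{2m}(q)`: general form -/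
theorem oplus_res (tab : OrderTable.{0}) (hK : Kn) {p : ℕ} {m : ℕ}
    (hm : 4 ≤ m) (h2 : ¬ (Fintype.card F = 2 ∧ m ≤ 5))
    (hc : CrossRowM p (POmega F (quadFormPlus m F)) (Fin m ⊕ Fin m) F)
    {R : Subgroup (POmega F (quadFormPlus m F))} (hR : R ≠ ⊤) {Q : Prop}
    (hres : InOrthogonalResidualClass (Cfsg.Agent.H884.El.pre (quadFormPlus m F) R)) (hQ : Miss R → Q)
    (hch : ∀ S : Subgroup R, S.Normal → IsSimpleGroup S → ¬ IsMulCommutative S →
      Subgroup.centralizer (S : Set R) = ⊥ → ∀ g, IsNamed g S → HasChar p g → Q) : Q := by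
  have hT : IsNamed (.oplus m (Fintype.card F)) (POmega F (quadFormPlus m F)) := named_oplus (F := F) hm
  have hfin : Finite (POmega F (quadFormPlus m F)) := Quotient.finite _
  obtain ⟨P, hP, -⟩ := hres
  obtain ⟨S, hSn, hSs, hna, hC, ⟨e⟩⟩ := exists_res_plus hm (M := R) hP
  obtain ⟨g, hg⟩ := named_of_simple tab hK hna
  refine res_kill (p := p) hT trivial ?_ ?_ S hC hg e ?_ hQ ?_ ?_
  · simp only [surv, List.mem_cons, Grp.oplus.injEq, reduceCtorEq, or_false, false_or, List.not_mem_nil]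
    omega
  · intro g' hg'
    simp only [exc, List.mem_cons, Prod.mk.injEq, Grp.oplus.injEq, reduceCtorEq, and_false, or_false, false_or,
      List.not_mem_nil] at hg'
    omega
  · rw [Fintype.card_sum, Fintype.card_fin]
    exact (two_mul m).symm
  · exact fun h => hch S hSn hSs hna hC g hg h
  · exact fun s hs hsp h => hQ (hc R hR S hSn hSs hna hC _ P hP ⟨e⟩ s g hs hsp hg h)

/-- **`PΩ^+_{2m}(q)`, `m ≥ 5`**, except `O10+(2)`. -/
theorem oplus_row (tab : OrderTable.{0}) (hK : Kn) {p : ℕ} (hp : p.Prime) (hpF : p ∣ Fintype.card F) {m : ℕ}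
    (hm : 5 ≤ m) (h2 : ¬ (Fintype.card F = 2 ∧ m ≤ 5))
    (hc : CrossRowM p (POmega F (quadFormPlus m F)) (Fin m ⊕ Fin m) F)
    {R : Subgroup (POmega F (quadFormPlus m F))} (hR : R ≠ ⊤) : Der _ R := by
  have hfin : Finite (POmega F (quadFormPlus m F)) := Quotient.finite _
  rcases geo_plusA hm R with h | h
  · exact h
  · exact oplus_res tab hK (by omega) h2 hc hR h der_of_miss fun S hSn hSs hna hC g hg hch =>
      charRowA_oplus hp hpF (named_oplus (F := F) (by omega)) hm h2 R hR S hSn hSs hna hC g hg hch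

/-- **`PΩ^+_8(q)`, `q ≠ 2`, semilinear version.** -/
theorem oplus_four (tab : OrderTable.{0}) (hK : Kn) {p : ℕ} (hp : p.Prime) (hpF : p ∣ Fintype.card F)
    (h2 : Fintype.card F ≠ 2) (hc : CrossRowM p (POmega F (quadFormPlus 4 F)) (Fin 4 ⊕ Fin 4) F)
    {R : Subgroup (POmega F (quadFormPlus 4 F))} (hR : R ≠ ⊤) : DerS (quadFormPlus 4 F) R := by
  have hfin : Finite (POmega F (quadFormPlus 4 F)) := Quotient.finite _
  rcases geo_plusS le_rfl R with h | h
  · exact h
  · refine oplus_res tab hK le_rfl (by omega) hc hR h (fun h => derS_of_der (der_of_miss h))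
      fun S hSn hSs hna hC g hg hch => ?_
    obtain ⟨f, hf⟩ := hasChar_card hp hpF
    have hf1 : 1 ≤ f := by
      rcases Nat.eq_zero_or_pos f with rfl | h
      · have := Fintype.one_lt_card (α := F)
        rw [hf, pow_zero] at this
        omega
      · exact h
    exact derS_four hf hp hf1 (hf ▸ h2) hR S hna hC hg hch

/-! ### the families -/

theorem clA_of_all {T : Type*} [Group T] (h : ∀ R : Subgroup T, R ≠ ⊤ → Der T R) : ClMaxA T :=
  fun M hM => h M hM.1

theorem alt_eight : ClMaxA (alternatingGroup (Fin 8)) := by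
  refine Alt.clMaxA_alt ⟨8, by norm_num, ⟨MulEquiv.refl _⟩⟩ ?_
  rintro ⟨e⟩
  have h1 := Nat.card_congr e.toEquiv
  have h2 := H499.TT.card_alt (n := 6) (by norm_num)
  have h3 := H499.TT.card_alt (n := 8) (by norm_num)
  rw [h1, h2] at h3
  exact absurd h3 (by decide)

/-- **`PSL_n(q)`**, not `PSL_2(9)`. -/
theorem clA_psl (tab : OrderTable.{0}) (hK : Kn) (hc : CrossRowsM) {n : ℕ} (hn : 2 ≤ n)
    (h4 : n = 2 → 4 ≤ Fintype.card F) (h9 : ¬ (n = 2 ∧ Fintype.card F = 9)) :
    ClMaxA (Matrix.ProjectiveSpecialLinearGroup (Fin n) F) := by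
  have hfin : Finite (Matrix.ProjectiveSpecialLinearGroup (Fin n) F) := Quotient.finite _
  obtain ⟨p, hp, hpF⟩ := exists_char_card (F := F)
  rcases Nat.lt_or_ge n 4 with h | h
  · have h23 : n = 2 ∨ n = 3 := by omega
    rcases h23 with rfl | rfl
    · exact H947.El.psl2_max (h4 rfl) fun h => h9 ⟨rfl, h⟩
    · exact H304.Psl3.clMaxA
  · by_cases h1 : Fintype.card F = 2 ∧ (n = 4 ∨ n = 6 ∨ n = 7)
    · obtain ⟨hF, rfl | rfl | rfl⟩ := h1
      · obtain ⟨e⟩ := S0256.result hF
        exact alt_eight.congr e.symm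
      · exact H503.El.clMaxA_psl62 tab hK F hF
      · exact H503.El.clMaxA_psl72 tab hK F hF
    · by_cases h2 : Fintype.card F = 4 ∧ n = 4
      · obtain ⟨hF, rfl⟩ := h2
        exact H503.El.clMaxA_psl44 tab hK F hF
      · exact psl_row tab hK hp hpF h h1 h2 (hc.psl hp hpF h h1 h2)

/-- **`PSp_2m(q)`**, except `PSp_4(2^f)`. -/
theorem clA_psp (tab : OrderTable.{0}) (hK : Kn) (hc : CrossRowsM) {m : ℕ} (hm : 2 ≤ m)
    (h : Odd (Fintype.card F) ∨ 3 ≤ m) : ClMaxA (PSp m F) := by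
  have hfin : Finite (PSp m F) := Quotient.finite _
  obtain ⟨p, hp, hpF⟩ := exists_char_card (F := F)
  by_cases hodd : Odd (Fintype.card F)
  · exact Sp.clMaxA_odd hm hodd
  have h3 := h.resolve_left hodd
  by_cases h1 : Fintype.card F = 2 ∧ m ≤ 4
  · obtain ⟨hF, hm4⟩ := h1
    have h34 : m = 3 ∨ m = 4 := by omega
    rcases h34 with rfl | rfl
    · exact H180.LEl.clMaxA_sp62 hF ⟨MulEquiv.refl _⟩
    · exact H503.El.clMaxA_sp82 tab hK F hF
  · exact clA_of_all fun R hR => psp_row tab hK hp hpF h3 h1 (hc.psp hp hpF h3 hodd h1) hR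

/-- **`PSU_n(q)`.** -/
theorem clA_psu (tab : OrderTable.{0}) (hK : Kn) (hc : CrossRowsM) {n q : ℕ} (hF : Fintype.card F = q ^ 2)
    (hn : 3 ≤ n) (h32 : ¬ (n = 3 ∧ q = 2)) (hq : IsPrimePow q) : ClMaxA (PSU n F q) := by
  have hfin : Finite (PSU n F q) := Quotient.finite _
  have hq2 := hq.two_le
  obtain ⟨p, f, hp, hf, hpf⟩ := (isPrimePow_nat_iff _).1 hq
  have hpq : p ∣ q := hpf ▸ dvd_pow_self p hf.ne'
  rcases Nat.lt_or_ge n 4 with h | h
  · obtain rfl : n = 3 := by omega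
    exact H947.El.clMaxA_psu3 hF (by omega)
  · by_cases h1 : q = 2 ∧ n ≤ 6
    · obtain ⟨rfl, hn6⟩ := h1
      have h456 : n = 4 ∨ n = 5 ∨ n = 6 := by omega
      rcases h456 with rfl | rfl | rfl
      · exact H251.Small.clMaxA_u42 tab hK hF
      · exact H251.Small.clMaxA_u5 tab hK hF
      · exact H251.Small.clMaxA_u6 tab hK hF
    · by_cases h2 : n = 4 ∧ q = 3
      · obtain ⟨rfl, rfl⟩ := h2
        exact H251.Small.clMaxA_u43 tab hK hF
      · exact clA_of_all fun R hR =>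
          der_of_miss (psu_row tab hK hF hp hpq h h1 h2 (hc.psu hF hp hpq h h1 h2) hR)

/-- **`Ω_{2m+1}(q)`.** -/
theorem clA_oodd (tab : OrderTable.{0}) (hK : Kn) (hc : CrossRowsM) {m : ℕ} (hm : 3 ≤ m)
    (hodd : Odd (Fintype.card F)) : ClMaxA (POmega F (quadFormOdd m F)) := by
  obtain ⟨p, hp, hpF⟩ := exists_char_card (F := F)
  exact clA_of_all fun R hR => oodd_row tab hK hp hpF hm hodd (hc.oodd hp hpF hm hodd) hR

/-- **`PΩ^+_{2m}(q)`, `m ≥ 5`.** -/
theorem clA_oplus (tab : OrderTable.{0}) (hK : Kn) (hc : CrossRowsM) {m : ℕ} (hm : 5 ≤ m) :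
    ClMaxA (POmega F (quadFormPlus m F)) := by
  have hfin : Finite (POmega F (quadFormPlus m F)) := Quotient.finite _
  obtain ⟨p, hp, hpF⟩ := exists_char_card (F := F)
  by_cases h1 : Fintype.card F = 2 ∧ m ≤ 5
  · obtain ⟨hF, hm5⟩ := h1
    obtain rfl : m = 5 := by omega
    exact H503.El.clMaxA_o10p tab hK F hF
  · exact clA_of_all fun R hR => oplus_row tab hK hp hpF hm h1 (hc.oplus hp hpF (by omega) h1) hR

/-- **`PΩ^-_{2m}(q)`.** -/
theorem clA_ominus (tab : OrderTable.{0}) (hK : Kn) (hc : CrossRowsM) {m : ℕ} (hm : 4 ≤ m) {a b : F}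
    (hab : ∀ z₁ z₂ : F, z₁ ^ 2 + a * z₁ * z₂ + b * z₂ ^ 2 = 0 → z₁ = 0 ∧ z₂ = 0) :
    ClMaxA (POmega F (quadFormMinus (m - 1) F a b)) := by
  have hfin : Finite (POmega F (quadFormMinus (m - 1) F a b)) := Quotient.finite _
  obtain ⟨p, hp, hpF⟩ := exists_char_card (F := F)
  by_cases h1 : Fintype.card F = 2 ∧ m = 4
  · obtain ⟨hF, rfl⟩ := h1
    exact H503.El.clMaxA_o8m tab hK F hF a b hab
  · exact clA_of_all fun R hR =>
      der_of_miss (ominus_row tab hK hp hpF hm hab h1 (hc.ominus hp hpF hm hab h1) hR)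

end Cfsg.Agent.H304.Ela
end
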