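import Cfsg.Agent.H278.ElDefs
import Cfsg.Agent.UGT.End.MEleven
import Cfsg.Agent.H884.ElO8
import Cfsg.Prelude.Def_LieTypeDatum
import Cfsg.Agent.FastGrp
import Cfsg.Agent.Prune
set_option linter.all false
prune_inst 0x7f00000000000000000000000000000000000000000000000000000000000000000000000000000000000000000000000000000000000000000000000000000000000000000000000000000000000000003fffffffffffffffffffffffffffbeffbdffffffff
open scoped Cfsg.Agent.FastGrp

-- part: H304/Ela/Red
section
/-!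
# S3553: reduction to the socle (helper304)
-/

set_option autoImplicit false
set_option linter.style.haveILetI false
set_option linter.unusedSectionVars false

namespace Cfsg.Agent.H304.Ela

open MulAction Subgroup Cfsg.Agent.H396 Cfsg.Agent.H278.El

universe u v

/-- `H` meets every class of elements of prime order -/
def Elus {G : Type*} [Group G] (H : Subgroup G) : Prop :=
  ∀ x : G, (orderOf x).Prime → ∃ g : G, g * x * g⁻¹ ∈ H

/-- the almost simple statement for the socle `T` -/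
def AS (T : Type u) [Group T] : Prop :=
  ∀ (G : Type u) [Group G] [Finite G] (N : Subgroup G) [N.Normal] (_ : N ≃* T)
    (_ : Subgroup.centralizer (N : Set G) = ⊥) (H : Subgroup G), ¬ N ≤ H → Elus H →
    Nat.card G = 12 * Nat.card H ∧ (Nat.card G = 7920 ∨ Nat.card G = 720)

/-- `S3553` from the almost simple statement -/
theorem s3553_of {G : Type u} {Ω : Type v} [Group G] [Finite G] [MulAction G Ω] [FaithfulSMul G Ω] [Finite Ω]
    (T : Subgroup G) (hT : T.Normal) (hTs : IsSimpleGroup ↥T)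
    (hTc : Subgroup.centralizer (T : Set G) = ⊥) (hAS : AS T)
    (htrans : MulAction.IsPretransitive G Ω) (helus : ∀ g : G, (orderOf g).Prime → ∃ ω : Ω, g • ω = ω) :
    Nat.card Ω = 12 ∧ (Nat.card G = 7920 ∨ Nat.card G = 720) := by
  obtain ⟨t₀, ht₀⟩ := exists_ne (1 : T)
  have hne : Nonempty Ω := by
    by_contra hn
    rw [not_nonempty_iff] at hn
    apply ht₀
    apply Subtype.ext
    exact FaithfulSMul.eq_of_smul_eq_smul (α := Ω) fun a => (hn.false a).elim
  obtain ⟨ω⟩ := hne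
  have h1 : ¬ T ≤ stabilizer G ω := by
    intro hle
    apply ht₀
    apply Subtype.ext
    refine FaithfulSMul.eq_of_smul_eq_smul (α := Ω) fun a => ?_
    obtain ⟨g, rfl⟩ := _root_.MulAction.exists_smul_eq G ω a
    have h2 : g⁻¹ * (t₀ : G) * g ∈ stabilizer G ω := hle (by
      simpa only [_root_.inv_inv] using hT.conj_mem (t₀ : G) t₀.2 g⁻¹)
    rw [mem_stabilizer_iff] at h2
    rw [Subgroup.coe_one, one_smul]
    calc (t₀ : G) • g • ω = g • ((g⁻¹ * (t₀ : G) * g) • ω) := by
          rw [smul_smul, smul_smul]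
          congr 1
          group
      _ = g • ω := by rw [h2]
  have h2 : Elus (stabilizer G ω) := by
    intro x hx
    obtain ⟨a, ha⟩ := helus x hx
    obtain ⟨g, rfl⟩ := _root_.MulAction.exists_smul_eq G ω a
    refine ⟨g⁻¹, ?_⟩
    rw [mem_stabilizer_iff, inv_inv, mul_smul, mul_smul, ha, inv_smul_smul]
  obtain ⟨h3, h4⟩ := hAS G T (MulEquiv.refl T) hTc (stabilizer G ω) h1 h2
  refine ⟨?_, h4⟩
  have h5 : (stabilizer G ω).index = Nat.card Ω := MulAction.index_stabilizer_of_transitive G ω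
  have h6 := (stabilizer G ω).index_mul_card
  have h7 : 0 < Nat.card (stabilizer G ω) := Nat.card_pos
  rw [h3, h5] at h6
  exact Nat.eq_of_mul_eq_mul_right h7 h6

section

variable {G : Type u} [Group G] {N : Subgroup G} [N.Normal] {H : Subgroup G} {T : Type v} [Group T]

/-- conjugation as an automorphism of `T` -/
def cjn (e : N ≃* T) : G →* MulAut T where
  toFun g := (e.symm.trans (MulAut.conjNormal g)).trans e
  map_one' := by
    ext x
    simp
  map_mul' g h := by
    ext x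
    simp only [_root_.map_mul, _root_.MulEquiv.trans_apply, _root_.MulAut.mul_apply, _root_.MulEquiv.symm_apply_apply]

theorem cjn_apply (e : N ≃* T) (g : G) (x : T) : cjn e g x = e (MulAut.conjNormal g (e.symm x)) := rfl

theorem cjn_mem (e : N ≃* T) (n : N) : cjn e (n : G) = MulAut.conj (e n) := by
  ext x
  rw [cjn_apply]
  have h : MulAut.conjNormal (n : G) (e.symm x) = n * e.symm x * n⁻¹ := by
    apply Subtype.ext
    rw [MulAut.conjNormal_apply]
    rfl
  rw [h]
  simp only [_root_.map_mul, _root_.MulEquiv.apply_symm_apply, _root_.map_inv, _root_.MulAut.conj_apply]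

theorem cjn_injective (e : N ≃* T) (hC : Subgroup.centralizer (N : Set G) = ⊥) : Function.Injective (cjn e) := by
  rw [injective_iff_map_eq_one]
  intro g hg
  have h1 : g ∈ Subgroup.centralizer (N : Set G) := by
    rw [Subgroup.mem_centralizer_iff]
    intro n hn
    have h2 := DFunLike.congr_fun hg (e ⟨n, hn⟩)
    rw [cjn_apply, MulEquiv.symm_apply_apply] at h2
    have h3 := e.injective h2
    have h4 := congrArg Subtype.val h3
    rw [MulAut.conjNormal_apply] at h4
    have h5 : g * n * g⁻¹ = n := h4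
    exact (mul_inv_eq_iff_eq_mul.1 h5).symm
  rw [hC] at h1
  exact h1

/-- the subgroup `H ∩ N` transported to `T` -/
def tr (e : N ≃* T) (H : Subgroup G) : Subgroup T := (H.subgroupOf N).map e.toMonoidHom

theorem mem_tr (e : N ≃* T) {x : T} : x ∈ tr e H ↔ ((e.symm x : N) : G) ∈ H := by
  constructor
  · rintro ⟨y, hy, rfl⟩
    have : e.symm (e.toMonoidHom y) = y := e.symm_apply_apply y
    rw [this]
    exact hy
  · intro h
    exact ⟨e.symm x, h, e.apply_symm_apply x⟩

theorem tr_ne_top (e : N ≃* T) (h : ¬ N ≤ H) : tr e H ≠ ⊤ := by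
  intro ht
  apply h
  intro n hn
  have h1 : e ⟨n, hn⟩ ∈ tr e H := by rw [ht]; trivial
  rw [mem_tr, MulEquiv.symm_apply_apply] at h1
  exact h1

theorem exists_cjn_mem (e : N ≃* T) (hE : Elus H) {x : T} (hx : (orderOf x).Prime) :
    ∃ g : G, cjn e g x ∈ tr e H := by
  have h1 : orderOf ((e.symm x : N) : G) = orderOf x := by
    rw [Subgroup.orderOf_coe, MulEquiv.orderOf_eq]
  obtain ⟨g, hg⟩ := hE ((e.symm x : N) : G) (by rwa [h1])
  refine ⟨g, ?_⟩
  rw [mem_tr, cjn_apply, MulEquiv.symm_apply_apply, MulAut.conjNormal_apply]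
  exact hg

theorem not_der (e : N ≃* T) (hE : Elus H) : ¬ Der T (tr e H) := by
  rintro ⟨x, hx, h⟩
  obtain ⟨g, hg⟩ := exists_cjn_mem e hE hx
  exact h (cjn e g) hg

/-- `H` normalises `H ∩ N` -/
theorem cjn_tr (e : N ≃* T) {h : G} (hh : h ∈ H) {x : T} (hx : x ∈ tr e H) : cjn e h x ∈ tr e H := by
  rw [mem_tr] at hx ⊢
  rw [cjn_apply, MulEquiv.symm_apply_apply, MulAut.conjNormal_apply]
  exact H.mul_mem (H.mul_mem hh hx) (H.inv_mem hh)

end

/-- the socles with `ClMaxA` -/
theorem AS.of_clMaxA {T : Type u} [Group T] [Finite T] (h : ClMaxA T) : AS T := by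
  intro G _ _ N _ e hC H hNH hE
  exact (not_der e hE (h.der _ (tr_ne_top e hNH))).elim

/-- `M11` -/
theorem AS.m11 {T : Type u} [Group T] [Finite T] (h : Cfsg.Spor.IsoM11 T) (hcl : ClT T)
    (hcard : Nat.card T = 7920) : AS T := by
  intro G _ _ N _ e hC H hNH hE
  have h1 : ∀ g : G, ∃ n : N, cjn e g = cjn e (n : G) := by
    intro g
    obtain ⟨t, ht⟩ := Cfsg.Agent.UGT.End.MEleven.inner h (cjn e g)
    refine ⟨e.symm t, ?_⟩
    rw [ht, cjn_mem, MulEquiv.apply_symm_apply]
  have hN : N = ⊤ := by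
    rw [eq_top_iff]
    intro g _
    obtain ⟨n, hn⟩ := h1 g
    rw [cjn_injective e hC hn]
    exact n.2
  have hnd : ¬ DerT T (tr e H) := by
    rintro ⟨x, hx, h2⟩
    obtain ⟨g, hg⟩ := exists_cjn_mem e hE hx
    obtain ⟨n, hn⟩ := h1 g
    rw [hn, cjn_mem] at hg
    exact h2 (e n) hg
  rcases hcl _ (tr_ne_top e hNH) with h3 | ⟨-, h3, -⟩
  · exact absurd h3 hnd
  · have h4 : Nat.card G = 7920 := by
      rw [← hcard, ← Nat.card_congr e.toEquiv, hN, Nat.card_congr Subgroup.topEquiv.toEquiv]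
    have h5 : Nat.card (tr e H) = Nat.card H := by
      rw [tr, Subgroup.card_map_of_injective e.injective]
      subst hN
      exact Nat.card_congr (Subgroup.subgroupOfEquivOfLe le_top).toEquiv
    rw [← h5, h3, h4]
    exact ⟨rfl, Or.inl rfl⟩

end Cfsg.Agent.H304.Ela
end

-- part: H304/Ela/Orth
section
/-!
# Semilinear versions of the geometric rows for the orthogonal groups (helper304, for S3553)

* `Semi Q α` : the automorphism `α` of `PΩ(Q)` is induced by a semisimilarity;
* `DerS Q M` : some element of prime order of `PΩ(Q)` has no image in `M` under the automorphisms with `Semi`.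
-/

set_option autoImplicit false
set_option linter.unusedSectionVars false

namespace Cfsg.Agent.H304.Ela

open Module QuadraticMap Cfsg Cfsg.Geo Cfsg.Agent.LieClassical.OrthCore Cfsg.Agent.H955 Cfsg.Agent.H954.TSing
open Cfsg.Agent.H951 (fx cm Inv)
open Cfsg.Agent.H884.El
open scoped MatrixGroups Matrix

universe u v

section gen

variable {ι : Type} [Fintype ι] [DecidableEq ι] {F : Type u} [Field F]

/-- induced by a semisimilarity -/
def Semi (Q : (ι → F) → F) (α : MulAut (POmega F Q)) : Prop :=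
  ∃ (g : GL ι F) (σ : F ≃+* F), IsSemisimilarityPair Q g σ ∧ IsInducedBySemilinearPOmega Q g σ α

/-- some element of prime order of `PΩ(Q)` has no semilinear image in `M` -/
def DerS (Q : (ι → F) → F) (M : Subgroup (POmega F Q)) : Prop :=
  ∃ x : POmega F Q, (orderOf x).Prime ∧ ∀ α : MulAut (POmega F Q), Semi Q α → α x ∉ M

/-- the matrix with the field automorphism applied to the entries -/
def mp (σ : F ≃+* F) : GL ι F →* GL ι F := Matrix.GeneralLinearGroup.map (σ : F →+* F)

theorem coe_mp (σ : F ≃+* F) (g : GL ι F) : ((mp σ g : GL ι F) : Matrix ι ι F) = (g : Matrix ι ι F).map σ := rfl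

theorem mp_injective (σ : F ≃+* F) : Function.Injective (mp (ι := ι) σ) := by
  intro a b h
  apply Units.ext
  have h1 := congrArg (fun x : GL ι F => (x : Matrix ι ι F)) h
  simp only [coe_mp] at h1
  ext i j
  have h2 := congrFun (congrFun h1 i) j
  exact σ.injective h2

theorem mulVec_mp (σ : F ≃+* F) (g : GL ι F) (v : ι → F) :
    ((mp σ g : GL ι F) : Matrix ι ι F) *ᵥ (fun i => σ (v i)) = fun i => σ (((g : Matrix ι ι F) *ᵥ v) i) := by
  ext i
  rw [coe_mp]
  simp only [Matrix.mulVec, dotProduct, map_sum, map_mul, _root_.Matrix.map_apply]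

theorem derS_of_der {Q : (ι → F) → F} {M : Subgroup (POmega F Q)} (h : H396.Der (POmega F Q) M) : DerS Q M := by
  obtain ⟨x, hx, h2⟩ := h
  exact ⟨x, hx, fun α _ => h2 α⟩

theorem DerS.der {Q : (ι → F) → F} {M : Subgroup (POmega F Q)} (h : DerS Q M) (hA : ∀ α, Semi Q α) :
    H396.Der (POmega F Q) M := by
  obtain ⟨x, hx, h2⟩ := h
  exact ⟨x, hx, fun α => h2 α (hA α)⟩

theorem DerS.mono {Q : (ι → F) → F} {M K : Subgroup (POmega F Q)} (h : DerS Q K) (hMK : M ≤ K) : DerS Q M := by
  obtain ⟨x, hx, h2⟩ := h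
  exact ⟨x, hx, fun α hα hm => h2 α hα (hMK hm)⟩

/-- a semisimilarity conjugates isometries to isometries -/
theorem conj_mem_isometry {Q : (ι → F) → F} {c : GL ι F} {σ : F ≃+* F} (hc : IsSemisimilarityPair Q c σ)
    {g : GL ι F} (hg : g ∈ isometryGroup F Q) : c * mp σ g * c⁻¹ ∈ isometryGroup F Q := by
  obtain ⟨l, hl⟩ := hc
  have hgQ := LieClassical.OrthFinite.mem_isometryGroup_iff.1 hg
  rw [LieClassical.OrthFinite.mem_isometryGroup_iff]
  intro w
  obtain ⟨v, rfl⟩ : ∃ v : ι → F, (c : Matrix ι ι F) *ᵥ (fun i => σ (v i)) = w := by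
    refine ⟨fun i => σ.symm ((((c⁻¹ : GL ι F) : Matrix ι ι F) *ᵥ w) i), ?_⟩
    simp only [RingEquiv.apply_symm_apply]
    rw [Matrix.mulVec_mulVec, ← Units.val_mul, mul_inv_cancel, Units.val_one, Matrix.one_mulVec]
  have h1 : ((c * mp σ g * c⁻¹ : GL ι F) : Matrix ι ι F) *ᵥ ((c : Matrix ι ι F) *ᵥ (fun i => σ (v i))) =
      (c : Matrix ι ι F) *ᵥ (fun i => σ (((g : Matrix ι ι F) *ᵥ v) i)) := by
    rw [Matrix.mulVec_mulVec, ← Units.val_mul, inv_mul_cancel_right, Units.val_mul, ← Matrix.mulVec_mulVec, mulVec_mp]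
  rw [h1, hl, hl, hgQ]

theorem finrank_cm_mp [Fintype F] (σ : F ≃+* F) (g : GL ι F) :
    finrank F (cm (lin (mp σ g))) = finrank F (cm (lin g)) := by
  have h1 : Nat.card (cm (lin (mp σ g))) = Nat.card (cm (lin g)) := by
    symm
    refine Nat.card_congr (Equiv.subtypeEquiv (Equiv.piCongrRight fun _ => σ.toEquiv) fun v => ?_)
    have hv : (Equiv.piCongrRight fun _ : ι => σ.toEquiv) v = fun i => σ (v i) := rfl
    rw [hv]
    change v ∈ cm (lin g) ↔ (fun i => σ (v i)) ∈ cm (lin (mp σ g))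
    rw [H951.mem_cm, H951.mem_cm]
    constructor
    · rintro ⟨w, hw⟩
      refine ⟨fun i => σ (w i), ?_⟩
      rw [← hw, lin, Matrix.toLin'_apply, mulVec_mp, lin, Matrix.toLin'_apply]
      ext i
      simp
    · rintro ⟨w, hw⟩
      refine ⟨fun i => σ.symm (w i), ?_⟩
      rw [lin, Matrix.toLin'_apply] at hw ⊢
      have h2 : w = fun i => σ ((fun i => σ.symm (w i)) i) := by ext i; simp
      rw [h2, mulVec_mp] at hw
      ext i
      have h3 := congrFun hw i
      apply σ.injective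
      rw [← h3]
      simp only [_root_.Pi.sub_apply, _root_.map_sub, _root_.RingEquiv.apply_symm_apply]
  have h2 := Module.natCard_eq_pow_finrank (K := F) (V := cm (lin (mp σ g)))
  have h3 := Module.natCard_eq_pow_finrank (K := F) (V := cm (lin g))
  rw [h1, h3] at h2
  exact (Nat.pow_right_injective Finite.one_lt_card h2).symm

end gen

section quad

variable {ι : Type} [Fintype ι] [DecidableEq ι] {F : Type u} [Field F] [Fintype F] {Q : QuadraticForm F (ι → F)}
  {M : Subgroup (POmega F (⇑Q))}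

theorem exists_conjS (hD : H390.Lift.Data Q) (hM : ¬ DerS (⇑Q) M) {g : GL ι F}
    (hg : g ∈ isometryGroup F (⇑Q)) {r : ℕ} (hr : r.Prime) (hr2 : r ≠ 2) (hgr : g ^ r = 1) (hg1 : g ≠ 1) :
    ∃ (c : GL ι F) (σ : F ≃+* F), c * mp σ g * c⁻¹ ∈ pre (⇑Q) M := by
  obtain ⟨x, rfl⟩ := exists_omega hD hg (hr.odd_of_ne_two hr2) hgr
  have hx : x ^ r = 1 := Subtype.ext (Subtype.ext hgr)
  have hx1 : x ≠ 1 := by
    rintro rfl
    exact hg1 rfl
  have hM' : ∃ α : MulAut (POmega F (⇑Q)), Semi (⇑Q) α ∧ α (QuotientGroup.mk' _ x) ∈ M := by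
    by_contra hcon
    push Not at hcon
    exact hM ⟨QuotientGroup.mk' _ x, by rw [orderOf_mk hD hr hr2 hx hx1]; exact hr, hcon⟩
  obtain ⟨α, ⟨c, σ, hc, hind⟩, hα⟩ := hM'
  have h1 := conj_mem_isometry hc hg
  have h2 : (c * mp σ ((x : isometryGroup F (⇑Q)) : GL ι F) * c⁻¹) ^ r = 1 := by
    rw [conj_pow, ← map_pow, hgr, map_one, mul_one, mul_inv_cancel]
  obtain ⟨y, hy⟩ := exists_omega hD h1 (hr.odd_of_ne_two hr2) h2
  refine ⟨c, σ, ?_⟩
  rw [← hy]
  apply mem_pre.2
  have h3 : α (QuotientGroup.mk x) = QuotientGroup.mk y := by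
    apply hind
    rw [hy, Units.val_mul, Units.val_mul, coe_mp]
  rw [← show α (QuotientGroup.mk' _ x) = QuotientGroup.mk' _ y from h3]
  exact hα

theorem finrank_cm_semi (c : GL ι F) (σ : F ≃+* F) (g : GL ι F) :
    finrank F (cm (lin (c * mp σ g * c⁻¹))) = finrank F (cm (lin g)) := by
  rw [finrank_cm_conj, finrank_cm_mp]

/-- **Odd dimension**, classes. -/
theorem odd_derS {m : ℕ} (h2F : (2 : F) ≠ 0) (hm : 3 ≤ m) (hn : Fintype.card ι = 2 * m + 1) (hQ : Nondeg Q)
    (hD : H390.Lift.Data Q) (M : Subgroup (POmega F (⇑Q))) :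
    DerS (⇑Q) M ∨ InOrthogonalResidualClass (pre (⇑Q) M) := by
  by_cases hM : DerS (⇑Q) M
  · exact Or.inl hM
  right
  rcases odd_miss h2F hm hn hQ hD M with h | h | ⟨hme, v, hv, hMv, hP⟩
  · exact absurd (derS_of_der h.derA) hM
  · exact h
  · exfalso
    have hq := one_lt_q F
    have hq2 : Nat.card F ≠ 2 := by
      intro h
      apply h2F
      have h5 : ((Fintype.card F : ℕ) : F) = 0 := FiniteField.cast_card_eq_zero F
      rw [← Nat.card_eq_fintype_card, h] at h5
      exact_mod_cast h5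
    have hm4 : 4 ≤ m := by
      obtain ⟨k, hk⟩ := hme
      omega
    obtain ⟨r, hr⟩ := exists_pp (q := Nat.card F) (e := m) (by omega) hm (by omega)
    obtain ⟨g, hg, hgr, hg1, hgd⟩ := exists_g (A := 2) hQ hr hme (by omega) (by omega) (Or.inr ⟨h2F, by omega⟩)
    have hr2 : r ≠ 2 := by have := hr.lt (by omega); omega
    obtain ⟨c, σ, hc⟩ := exists_conjS hD hM hg hr.prime hr2 hgr hg1
    have hcr : (c * mp σ g * c⁻¹) ^ r = 1 := by rw [conj_pow, ← map_pow, hgr, map_one, mul_one, mul_inv_cancel]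
    have hx : lin (c * mp σ g * c⁻¹) ^ r = 1 := by rw [← H251.GeoCard.toLin_pow, hcr]; exact lin_one
    have hiso : Iso Q (lin (c * mp σ g * c⁻¹)) r := Iso.mk' hr (by omega) hx (lin_iso pre_le hc)
    have hd : finrank F (cm (lin (c * mp σ g * c⁻¹))) = m * 2 := by rw [finrank_cm_semi, hgd]
    have hPl := hiso.even_two hQ hr hme hd
    have hadd := hiso.finrank_add
    rw [finrank_V] at hadd
    have hv0 : v ≠ 0 := by
      rintro rfl
      exact hv (QuadraticMap.map_zero Q)
    have hs1 := finrank_span_singleton (K := F) hv0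
    have hle := hiso.le_fx hr (inv_of_mem (hMv hc)) (by omega)
    have heq : Submodule.span F {v} = fx (lin (c * mp σ g * c⁻¹)) :=
      Submodule.eq_of_le_of_finrank_eq hle (by omega)
    rw [heq, perp_fx hQ hiso.iso hiso.ne0 hiso.pow] at hP
    exact hP hPl

/-- the stabiliser of a nonsingular point misses the class of a fixed-point-free isometry. -/
theorem plus_pointS {m : ℕ} (hm : 4 ≤ m) (hn : Fintype.card ι = 2 * m) (hQ : Nondeg Q) (hP : IsPlus Q) (hme : Even m)
    (hD : H390.Lift.Data Q) {M : Subgroup (POmega F (⇑Q))} {v : ι → F} (hv : v ≠ 0)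
    (hMv : pre (⇑Q) M ≤ subspaceStabilizer (Submodule.span F {v})) : DerS (⇑Q) M := by
  by_contra hM
  obtain ⟨r, e, hr, he, g, hg, hgr, hg1, hgd⟩ := exists_fpf hm hn hQ hP hme
  have hr2 : r ≠ 2 := by have := hr.lt (by omega); omega
  obtain ⟨c, σ, hc⟩ := exists_conjS hD hM hg hr.prime hr2 hgr hg1
  have hcr : (c * mp σ g * c⁻¹) ^ r = 1 := by rw [conj_pow, ← map_pow, hgr, map_one, mul_one, mul_inv_cancel]
  have hx : lin (c * mp σ g * c⁻¹) ^ r = 1 := by rw [← H251.GeoCard.toLin_pow, hcr]; exact lin_one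
  have hiso : Iso Q (lin (c * mp σ g * c⁻¹)) r := Iso.mk' hr (by omega) hx (lin_iso pre_le hc)
  have hd : finrank F (cm (lin (c * mp σ g * c⁻¹))) = 2 * m := by rw [finrank_cm_semi, hgd]
  have hadd := hiso.finrank_add
  rw [finrank_V] at hadd
  have hs1 := finrank_span_singleton (K := F) hv
  have hle := hiso.le_fx hr (inv_of_mem (hMv hc)) (by omega)
  have := Submodule.finrank_mono hle
  omega

/-- **Plus type**, classes. -/
theorem plus_derS {m : ℕ} (hm : 4 ≤ m) (hn : Fintype.card ι = 2 * m) (hQ : Nondeg Q) (hP : IsPlus Q)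
    (hexc : ¬ (Nat.card F = 2 ∧ m = 4)) (hD : H390.Lift.Data Q) (M : Subgroup (POmega F (⇑Q))) :
    DerS (⇑Q) M ∨ InOrthogonalResidualClass (pre (⇑Q) M) := by
  rcases plus_miss hm hn hQ hP hexc hD M with h | h | ⟨hme, v, hv, hMv⟩
  · exact Or.inl (derS_of_der h.derA)
  · exact Or.inr h
  · refine Or.inl (plus_pointS hm hn hQ hP hme hD ?_ hMv)
    rintro rfl
    exact hv (QuadraticMap.map_zero Q)

/-- **`PΩ⁺₈(2)`**. -/
theorem eight_derS (hF : Nat.card F = 2) (hn : Fintype.card ι = 8) (hQ : Nondeg Q) (hP : IsPlus Q)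
    (hD : H390.Lift.Data Q) (M : Subgroup (POmega F (⇑Q))) :
    DerS (⇑Q) M ∨ InOrthogonalResidualClass (pre (⇑Q) M) := by
  by_cases hM : DerS (⇑Q) M
  · exact Or.inl hM
  right
  have hMiss : ¬ Miss M := fun h => hM (derS_of_der h.derA)
  have hP7 : PP (Nat.card F) 3 7 := by
    rw [hF]
    refine ⟨by norm_num, ?_⟩
    have : Fact (Nat.Prime 3) := ⟨Nat.prime_three⟩
    exact orderOf_eq_prime (by decide) (by decide)
  have hP5 : PP (Nat.card F) 4 5 := by
    rw [hF]
    refine ⟨by norm_num, ?_⟩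
    have : Fact (Nat.Prime 2) := ⟨Nat.prime_two⟩
    rw [show (4 : ℕ) = 2 ^ (1 + 1) by norm_num]
    exact orderOf_eq_prime_pow (by decide) (by decide)
  have hev : Even (Fintype.card ι) := by rw [hn]; decide
  have hhit : Hits (pre (⇑Q) M) 3 := hits_of hD hMiss (by omega) fun r hr => by
    obtain ⟨g, h1, h2, h3, -⟩ := exists_g_odd (A := 1) hQ hr (by decide) (by omega) le_rfl
      (Or.inl ⟨hev, Or.inl (by omega)⟩)
    exact ⟨g, h1, h2, h3⟩
  refine row_eight hF hn hQ pre_le (hhit 7 hP7) ?_ ?_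
  · obtain ⟨g, hg, hg5, hg1, hgd⟩ := exists_g (A := 1) hQ hP5 (by decide) (by omega) le_rfl
      (Or.inl ⟨hev, Or.inl (by omega)⟩)
    obtain ⟨c, σ, hc⟩ := exists_conjS hD hM hg hP5.prime (by omega) hg5 hg1
    refine ⟨_, hc, by rw [conj_pow, ← map_pow, hg5, map_one, mul_one, mul_inv_cancel], ?_,
      by rw [finrank_cm_semi, hgd]⟩
    intro h
    exact hg1 (mp_injective σ (by rw [conj_eq_one_iff.1 h, map_one]))
  · obtain ⟨g, hg, hg5, hg1, hgd⟩ := exists_g (A := 2) hQ hP5 (by decide) (by omega) (by omega)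
      (Or.inl ⟨hev, Or.inr ⟨by omega, iff_of_true hP (by decide)⟩⟩)
    obtain ⟨c, σ, hc⟩ := exists_conjS hD hM hg hP5.prime (by omega) hg5 hg1
    refine ⟨_, hc, by rw [conj_pow, ← map_pow, hg5, map_one, mul_one, mul_inv_cancel], ?_,
      by rw [finrank_cm_semi, hgd]⟩
    intro h
    exact hg1 (mp_injective σ (by rw [conj_eq_one_iff.1 h, map_one]))

end quad

end Cfsg.Agent.H304.Ela
end

private theorem dce_3fad0855db56 : _root_.True := by
  try have : _root_.True := by simp only [_root_.Cfsg.Agent.H304.Ela.tr.eq_1]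
  exact _root_.True.intro
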